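import Groth.Agent.Lib.Index22.Quat
import Groth.Agent.Lib.AlgEquiv22.Dense
import Groth.Agent.Lib.AlgEquiv22.NonDeg

/-!
# A complement of an abelian variety mapped into another, orthogonal for a given class
-/

universe u

open CategoryTheory Limits MonoidalCategory CartesianMonoidalCategory AlgebraicGeometry TopologicalSpace Opposite
open scoped MonObj GrpObj

set_option autoImplicit false
set_option linter.style.haveILetI false
set_option linter.unusedSectionVars false
set_option maxHeartbeats 1000000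
set_option backward.isDefEq.respectTransparency false

noncomputable section

namespace Groth.Agent.Index22

open AlgEquiv22 MumVan22

noncomputable local instance instLawIdx5 (Y : Scheme.{u}) : PicGrp.Law Y := M2.law Y

variable {k : Type u} [Field k] [IsAlgClosed k] {A B : Over (Spec (CommRingCat.of k))} [GrpObj A] [IsProper A.hom]
  [GeometricallyIntegral A.hom] [GrpObj B] [IsProper B.hom] [GeometricallyIntegral B.hom]

/-- A map of varieties with finitely many rational points over each rational point is finite. -/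
theorem isFinite_of_finite_points {X Y : Over (Spec (CommRingCat.of k))} [IsProper X.hom] [IsProper Y.hom] (f : X ⟶ Y)
    (h : ∀ b, {a : 𝟙_ (Over (Spec (CommRingCat.of k))) ⟶ X | a ≫ f = b}.Finite) : IsFinite f.left := by
  haveI : JacobsonSpace X.left := LocallyOfFiniteType.jacobsonSpace (Y := Spec _) X.hom
  haveI : IsProper (f.left ≫ Y.hom) := by rw [Over.w]; infer_instance
  haveI : IsProper f.left := .of_comp _ Y.hom
  have hcl : ∀ x ∈ closedPoints X.left, f.left.QuasiFiniteAt x := by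
    intro x hx
    have hb : IsClosed ({f.left x} : Set Y.left) := by
      rw [← Set.image_singleton]; exact f.left.isClosedMap _ hx
    obtain ⟨b, hbe⟩ := CubeField.exists_rpt (X := Y) hb
    set F := f.left ⁻¹' {f.left x}
    set S := CubeField.rpt '' {a : 𝟙_ (Over (Spec (CommRingCat.of k))) ⟶ X | a ≫ f = b}
    have hSfin : S.Finite := (h b).image _
    have hclosed : ∀ T ⊆ S, IsClosed T := fun T hT => by
      rw [← Set.biUnion_of_singleton T]
      refine (hSfin.subset hT).isClosed_biUnion fun s hs => ?_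
      obtain ⟨a, -, rfl⟩ := hT hs
      haveI : LocallyOfFiniteType (a.left ≫ X.hom) := by
        rw [Over.w a]; exact inferInstanceAs (LocallyOfFiniteType (𝟙 (Spec (CommRingCat.of k))))
      haveI : LocallyOfFiniteType a.left := locallyOfFiniteType_of_comp a.left X.hom
      exact a.left.closePoints_subset_preimage_closedPoints (isClosed_discrete (α := Spec (CommRingCat.of k)) _)
    have hFS : F ⊆ S := by
      show f.left ⁻¹' {f.left x} ⊆ S
      rw [← (JacobsonSpace.closure_inter_closedPoints_eq_closure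
        (hb.preimage f.left.continuous).isLocallyClosed).trans (hb.preimage f.left.continuous).closure_eq]
      refine closure_minimal (fun v ⟨hv, hvc⟩ => ?_) (hclosed S subset_rfl)
      obtain ⟨a, rfl⟩ := CubeField.exists_rpt (X := X) hvc
      exact ⟨a, CubeField.rpt_injective (by rw [CubeField.rpt_comp, hbe]; exact hv), rfl⟩
    rw [Scheme.Hom.quasiFiniteAt_iff_isOpen_singleton_asFiber]
    haveI : Finite ↥F := (hSfin.subset hFS).to_subtype
    haveI : DiscreteTopology ↥F := DiscreteTopology.of_finite_of_isClosed_singleton fun y => by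
      have := (hclosed {y.1} (Set.singleton_subset_iff.2 (hFS y.2))).preimage
        (continuous_subtype_val (p := fun a => a ∈ F))
      have e : (Subtype.val ⁻¹' {y.1} : Set ↥F) = {y} := by ext z; simp [Subtype.ext_iff]
      rwa [e] at this
    rw [← (f.left.fiberHomeo (f.left x)).isOpen_image]
    exact isOpen_discrete _
  have hall : ∀ x, f.left.QuasiFiniteAt x := by
    by_contra hne
    push Not at hne
    obtain ⟨x, hx⟩ := hne
    obtain ⟨q, hq, hqc⟩ := nonempty_inter_closedPoints (Z := {x | f.left.QuasiFiniteAt x}ᶜ) ⟨x, hx⟩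
      f.left.isOpen_quasiFiniteAt.isClosed_compl.isLocallyClosed
    exact hq (hcl q hqc)
  haveI : LocallyQuasiFinite f.left := by
    rw [locallyQuasiFinite_iff_isDiscrete_preimage_singleton]
    intro b
    refine ⟨discreteTopology_iff_isOpen_singleton.2 fun ⟨x, hx⟩ => ?_⟩
    obtain rfl : f.left x = b := hx
    have := Scheme.Hom.quasiFiniteAt_iff_isOpen_singleton_asFiber.1 (hall x)
    rw [← (f.left.fiberHomeo (f.left x)).isOpen_image] at this
    simpa [Scheme.Hom.asFiber] using this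
  exact IsFinite.of_isProper_of_locallyQuasiFinite f.left

/-- An orthogonal complement. -/
theorem exists_complement (i : B ⟶ A) [IsMonHom i] (c : PicLoc.PicSet A.left) (hnd : Nd (pb i c)) :
    ∃ (C : Over (Spec (CommRingCat.of k))) (_ : GrpObj C) (_ : IsProper C.hom) (_ : GeometricallyIntegral C.hom)
      (j : C ⟶ A) (_ : IsMonHom j), IsClosedImmersion j.left ∧
      IsMonHom ((fst B C ≫ i) * (snd B C ≫ j)) ∧
      IsFinite ((fst B C ≫ i) * (snd B C ≫ j)).left ∧ Flat ((fst B C ≫ i) * (snd B C ≫ j)).left ∧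
      Surjective ((fst B C ≫ i) * (snd B C ≫ j)).left ∧
      pb ((fst B C ≫ i) * (snd B C ≫ j)) c = boxC (pb i c) (pb j c) := by
  classical
  haveI := isCommMonObj_of_isProper_of_geometricallyIntegral A
  haveI := isCommMonObj_of_isProper_of_geometricallyIntegral B
  haveI : JacobsonSpace A.left := LocallyOfFiniteType.jacobsonSpace A.hom
  haveI : CompactSpace A.left := QuasiCompact.compactSpace_of_compactSpace A.hom
  haveI : IsLocallyNoetherian A.left := LocallyOfFiniteType.isLocallyNoetherian A.hom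
  haveI : AlgebraicGeometry.IsNoetherian A.left := {}
  haveI : IsIntegral A.left := GeometricallyIntegral.isIntegral_of_subsingleton A.hom
  let tr : (𝟙_ (Over (Spec (CommRingCat.of k))) ⟶ A) → (A ⟶ A) := fun a => 𝟙 A * (toUnit A ≫ a)
  let ψ : (𝟙_ (Over (Spec (CommRingCat.of k))) ⟶ A) → PicLoc.PicSet B.left :=
    fun a => pb (i * (toUnit B ≫ a)) c * (pb i c)⁻¹
  have hψ : ∀ a, ψ a = pb i (pb (tr a) c * c⁻¹) := fun a => by
    rw [map_mul, map_inv, pb_pb, MonObj.comp_mul, Category.comp_id, comp_toUnit_assoc]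
  obtain ⟨Z, hZc, hZ⟩ := exists_isClosed_trivial (A := B) (T := A)
    (pb ((fst B A ≫ i) * snd B A) c * (pb (fst B A ≫ i) c)⁻¹)
  have hmem : ∀ a, CubeField.rpt a ∈ Z ↔ ψ a = 1 := fun a => by
    rw [hZ, map_mul, map_inv, pb_pb, pb_pb, MonObj.comp_mul, lift_fst_assoc, lift_snd, Category.id_comp]
  have hψmul : ∀ a b, ψ (a * b) = ψ a * ψ b := by
    intro a b
    have h1 := inv_translate_div c b a
    rw [map_mul, map_inv, pb_pb, show tr a ≫ tr b = tr (a * b) by
      simp only [tr]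
      rw [MonObj.comp_mul, Category.comp_id, comp_toUnit_assoc, _root_.mul_assoc, ← MonObj.comp_mul]] at h1
    rw [hψ, hψ, hψ, ← map_mul, mul_inv_eq_iff_eq_mul.1 h1]
    congr 1
    rw [mul_comm (pb (tr b) c * c⁻¹) (pb (tr a) c), mul_right_comm]
  let Ψ : (𝟙_ (Over (Spec (CommRingCat.of k))) ⟶ A) →* PicLoc.PicSet B.left := MonoidHom.mk' ψ hψmul
  have hdiv : ∀ a b, CubeField.rpt a ∈ Z → CubeField.rpt b ∈ Z → CubeField.rpt (a * b⁻¹) ∈ Z := by
    intro a b ha hb
    rw [hmem] at ha hb ⊢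
    show Ψ (a * b⁻¹) = 1
    rw [map_mul, map_inv, show Ψ a = 1 from ha, show Ψ b = 1 from hb, inv_one, _root_.mul_one]
  -- every component of `Z` lies in a translate of a subgroup variety inside `Z`
  obtain ⟨𝒮, h𝒮f, h𝒮c, h𝒮i, h𝒮eq⟩ := NoetherianSpace.exists_finite_set_isClosed_irreducible hZc
  let 𝒯 := {T ∈ 𝒮 | ∀ T' ∈ 𝒮, T ⊆ T' → T' ⊆ T}
  have hle : ∀ W : Set A.left, IsIrreducible W → W ⊆ Z → ∃ T ∈ 𝒯, W ⊆ T := by
    intro W hW hWS
    obtain ⟨T, hT, hWT⟩ := isIrreducible_iff_sUnion_isClosed.1 hW h𝒮f.toFinset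
      (fun T hT => h𝒮c T (h𝒮f.mem_toFinset.1 hT)) (by rw [h𝒮f.coe_toFinset, ← h𝒮eq]; exact hWS)
    obtain ⟨T', ⟨hT', hTT'⟩, hmax⟩ := (h𝒮f.inter_of_left {T' | T ⊆ T'}).exists_maximal
      ⟨T, h𝒮f.mem_toFinset.1 hT, Set.Subset.refl T⟩
    exact ⟨T', ⟨hT', fun R hR hle => hmax ⟨hR, hTT'.trans hle⟩ hle⟩, hWT.trans hTT'⟩
  have hpiece : ∀ W : 𝒮, ∃ (f : 𝟙_ (Over (Spec (CommRingCat.of k))) ⟶ A) (C : Over (Spec (CommRingCat.of k)))
      (_ : GrpObj C) (_ : IsProper C.hom) (_ : GeometricallyIntegral C.hom) (j : C ⟶ A) (_ : IsMonHom j),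
      IsClosedImmersion j.left ∧ Set.range j.left ⊆ Z ∧
      ∀ a, CubeField.rpt a ∈ W.1 → CubeField.rpt (a * f⁻¹) ∈ Set.range j.left := by
    rintro ⟨W, hW⟩
    obtain ⟨z, hz, hzc⟩ := nonempty_inter_closedPoints (Z := W) (h𝒮i W hW).nonempty (h𝒮c W hW).isLocallyClosed
    obtain ⟨f, rfl⟩ := CubeField.exists_rpt (X := A) hzc
    obtain ⟨R, hRi, hRS, h1R, hRdiv, -⟩ := exists_irreducible_div hZc hdiv (h𝒮c W hW) (h𝒮i W hW)
      (h𝒮eq ▸ Set.subset_sUnion_of_mem hW)
    obtain ⟨T, ⟨hT, hTmax⟩, hRT⟩ := hle R hRi hRS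
    have h1T := hRT h1R
    have hTS : T ⊆ Z := h𝒮eq ▸ Set.subset_sUnion_of_mem hT
    obtain ⟨R', hR'i, hR'S, -, hR'div, hTR'⟩ := exists_irreducible_div hZc hdiv (h𝒮c T hT) (h𝒮i T hT) hTS
    obtain ⟨T', hT', hR'T'⟩ := hle R' hR'i hR'S
    have hR'T : R' ⊆ T := hR'T'.trans (hTmax T' hT'.1 ((hTR' h1T).trans hR'T'))
    obtain ⟨C, gC, hCg, j, hj, hcj, hrange⟩ := CubeField.exists_subgroup_of_isClosed (h𝒮c T hT) (h𝒮i T hT) h1T
      fun a b ha hb => hR'T (hR'div a b ha hb)
    haveI := hcj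
    haveI : IsProper C.hom := by rw [← Over.w j]; infer_instance
    exact ⟨f, C, gC, inferInstance, hCg, j, hj, hcj, hrange ▸ hTS,
      fun a ha => hrange.symm ▸ hRT (hRdiv a f ha hz)⟩
  choose f C gC pC iC j hj hcj hjZ hcov using hpiece
  let σ : ∀ W : 𝒮, B ⊗ C W ⟶ A := fun W => (fst B (C W) ≫ i) * (snd B (C W) ≫ j W)
  -- one of the sums is surjective
  have hproper : ∀ W, IsProper (σ W ≫ tr (f W)).left := fun W => by
    haveI := pC W
    haveI : IsProper ((σ W ≫ tr (f W)).left ≫ A.hom) := by rw [Over.w]; infer_instance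
    exact .of_comp _ A.hom
  have huniv : Set.univ ⊆ ⋃ W : 𝒮, Set.range (σ W ≫ tr (f W)).left := by
    haveI : Finite 𝒮 := h𝒮f.to_subtype
    have hclosed : IsClosed (⋃ W : 𝒮, Set.range (σ W ≫ tr (f W)).left) :=
      isClosed_iUnion_of_finite fun W => by
        haveI := hproper W
        exact (σ W ≫ tr (f W)).left.isClosedMap.isClosed_range
    rw [← closure_closedPoints (X := A.left)]
    refine closure_minimal (fun z hz => ?_) hclosed
    obtain ⟨a, rfl⟩ := CubeField.exists_rpt (X := A) hz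
    obtain ⟨N, hN, hNc⟩ := PicGrp.exists_eq_cls (ψ a)
    obtain ⟨M, hM, hMc⟩ := PicGrp.exists_eq_cls (pb i c)
    obtain ⟨b, hb⟩ := exists_translate hM hN (hNc ▸ hψ a ▸ inv_pb i (inv_translate_div c a)) (hMc ▸ hnd)
    have hb' : ψ (b ≫ i) = ψ a := by
      rw [← hMc, ← hNc, pb_pb] at hb
      refine Eq.trans ?_ hb
      simp only [ψ, MonObj.mul_comp, Category.id_comp, Category.assoc]
    have hd : CubeField.rpt (a * (b ≫ i)⁻¹) ∈ Z := by
      rw [hmem]
      show Ψ _ = 1
      rw [map_mul, map_inv]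
      exact mul_inv_eq_one.2 hb'.symm
    rw [h𝒮eq] at hd
    obtain ⟨W, hW, hdW⟩ := hd
    haveI := pC ⟨W, hW⟩
    haveI := hcj ⟨W, hW⟩
    obtain ⟨x, hx⟩ := CubeField.exists_point_lift (j ⟨W, hW⟩) _ (hcov ⟨W, hW⟩ _ hdW)
    refine Set.mem_iUnion.2 ⟨⟨W, hW⟩, CubeField.rpt (lift b x), ?_⟩
    rw [← CubeField.rpt_comp]
    congr 1
    simp only [σ, tr, MonObj.comp_mul, Category.comp_id, comp_toUnit_assoc, lift_fst_assoc, lift_snd_assoc, hx,
      toUnit_unique (toUnit _) (𝟙 (𝟙_ (Over (Spec (CommRingCat.of k))))), Category.id_comp]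
    rw [_root_.mul_assoc, inv_mul_cancel_right, mul_comm a, mul_inv_cancel_left]
  obtain ⟨W, hWuniv⟩ : ∃ W : 𝒮, Set.univ ⊆ Set.range (σ W ≫ tr (f W)).left := by
    haveI : Finite 𝒮 := h𝒮f.to_subtype
    haveI := Fintype.ofFinite 𝒮
    obtain ⟨t, ht, hsub⟩ := isIrreducible_iff_sUnion_isClosed.1 (IrreducibleSpace.isIrreducible_univ A.left)
      (Finset.univ.image fun W : 𝒮 => Set.range (σ W ≫ tr (f W)).left)
      (fun t ht => by
        obtain ⟨W, -, rfl⟩ := Finset.mem_image.1 ht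
        haveI := hproper W
        exact (σ W ≫ tr (f W)).left.isClosedMap.isClosed_range)
      (by simpa [Set.sUnion_range] using huniv)
    obtain ⟨W, -, rfl⟩ := Finset.mem_image.1 ht
    exact ⟨W, hsub⟩
  letI := gC W
  haveI := pC W
  haveI := iC W
  haveI := hj W
  haveI := hcj W
  haveI := isCommMonObj_of_isProper_of_geometricallyIntegral (C W)
  haveI : IsMonHom (σ W) := by
    haveI : Smooth (B ⊗ C W).hom :=
      @smooth_of_grpObj k _ _ (B ⊗ C W).hom _ (show GrpObj (Over.mk (B ⊗ C W).hom) from inferInstanceAs (GrpObj (B ⊗ C W))) _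
    refine RatMapAV.isMonHom_of_smooth (B ⊗ C W) A _ ?_
    have h1 : ∀ (X : Over (Spec (CommRingCat.of k))) [GrpObj X], η[X] = (1 : 𝟙_ _ ⟶ X) := fun X _ => by
      rw [Hom.one_def, toUnit_unique (toUnit _) (𝟙 _), Category.id_comp]
    simp only [σ, h1, MonObj.comp_mul, ← Category.assoc, MonObj.one_comp, _root_.one_mul]
  have hsurj : Surjective (σ W).left := ⟨fun z => by
    obtain ⟨x, hx⟩ := hWuniv (Set.mem_univ ((tr (f W)).left z))
    refine ⟨x, ?_⟩
    haveI : IsIso (tr (f W)) := ⟨tr (f W)⁻¹, by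
        simp only [tr]
        rw [MonObj.comp_mul, Category.comp_id, comp_toUnit_assoc, _root_.mul_assoc, ← MonObj.comp_mul,
          mul_inv_cancel, MonObj.comp_one, _root_.mul_one], by
        simp only [tr]
        rw [MonObj.comp_mul, Category.comp_id, comp_toUnit_assoc, _root_.mul_assoc, ← MonObj.comp_mul,
          inv_mul_cancel, MonObj.comp_one, _root_.mul_one]⟩
    haveI : IsIso (tr (f W)).left := inferInstanceAs (IsIso ((Over.forget _).map (tr (f W))))
    refine (tr (f W)).left.homeomorph.injective ?_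
    rw [Over.comp_left, Scheme.Hom.comp_apply] at hx
    exact hx⟩
  haveI := hsurj
  have hZj : ∀ x : 𝟙_ (Over (Spec (CommRingCat.of k))) ⟶ C W, ψ (x ≫ j W) = 1 := fun x =>
    (hmem _).1 (by rw [CubeField.rpt_comp]; exact hjZ W ⟨_, rfl⟩)
  haveI hfin : IsFinite (σ W).left := by
    refine isFinite_of_finite_points (σ W) fun a => ?_
    rcases Set.eq_empty_or_nonempty {p : 𝟙_ (Over (Spec (CommRingCat.of k))) ⟶ B ⊗ C W | p ≫ σ W = a}
      with he | ⟨p₀, hp₀⟩
    · rw [he]; exact Set.finite_empty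
    have hcomp : ∀ p : 𝟙_ (Over (Spec (CommRingCat.of k))) ⟶ B ⊗ C W,
        p ≫ σ W = ((p ≫ fst B (C W)) ≫ i) * ((p ≫ snd B (C W)) ≫ j W) := fun p => by
      simp only [σ, MonObj.comp_mul, Category.assoc]
    refine Set.Finite.of_finite_image (f := fun p => p ≫ fst B (C W)) ?_ fun p hp q hq hpq => ?_
    · refine ((hnd.image fun b => b * (p₀ ≫ fst B (C W))).subset ?_)
      rintro _ ⟨p, hp, rfl⟩
      refine ⟨(p ≫ fst B (C W)) * (p₀ ≫ fst B (C W))⁻¹, ?_, inv_mul_cancel_right _ _⟩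
      have e := congrArg Ψ (hp.trans hp₀.symm)
      rw [hcomp, hcomp, map_mul, map_mul, show Ψ _ = 1 from hZj _, show Ψ _ = 1 from hZj _, _root_.mul_one,
        _root_.mul_one] at e
      have e2 : ψ (((p ≫ fst B (C W)) * (p₀ ≫ fst B (C W))⁻¹) ≫ i) = 1 := by
        show Ψ _ = 1
        rw [MonObj.mul_comp, GrpObj.inv_comp, map_mul, map_inv]
        exact mul_inv_eq_one.2 e
      show pb _ (pb i c) = pb i c
      rw [pb_pb, MonObj.mul_comp, Category.id_comp, Category.assoc, ← mul_inv_eq_one]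
      exact e2
    · haveI : Mono (j W) := (Over.forget _).mono_of_mono_map (f := j W) (show Mono (j W).left from inferInstance)
      have e : p ≫ σ W = q ≫ σ W := hp.trans hq.symm
      rw [hcomp, hcomp, show (p ≫ fst B (C W)) = (q ≫ fst B (C W)) from hpq, mul_left_cancel_iff] at e
      exact CartesianMonoidalCategory.hom_ext _ _ hpq ((cancel_mono (j W)).1 e)
  haveI : IsIntegral (B ⊗ C W).left := GeometricallyIntegral.isIntegral_of_subsingleton (B ⊗ C W).hom
  refine ⟨C W, gC W, pC W, iC W, j W, hj W, hcj W, inferInstance, hfin, AbRigid.flat_of_surjective _ _ (σ W), hsurj,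
    ?_⟩
  -- the cross term vanishes
  obtain ⟨N, hN, hd⟩ := PicGrp.exists_eq_cls (pb (σ W) c * (boxC (pb i c) (pb (j W) c))⁻¹)
  have ht : CubeField.IsTriv N := by
    refine CubeField.isTriv_of_point_slices (1 : 𝟙_ _ ⟶ B) CubeField.finH1 N hN (fun t => ?_) ?_
    · rw [isTriv_iff _ hN, ← hd]
      simp only [σ, boxC, map_mul, map_inv, pb_pb, MonObj.comp_mul, lift_fst_assoc, lift_snd_assoc, Category.id_comp,
        Category.assoc, pb_const, _root_.mul_one]
      rw [← hZj t]
    · rw [isTriv_iff _ hN, ← hd]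
      simp only [σ, boxC, map_mul, map_inv, pb_pb, MonObj.comp_mul, lift_fst_assoc, lift_snd_assoc, Category.id_comp,
        Category.assoc, pb_const, MonObj.one_comp, _root_.one_mul]
      rw [MonObj.comp_one, _root_.one_mul, mul_inv_cancel]
  exact mul_inv_eq_one.1 (hd.trans ((PicGrp.cls_eq_one_iff _).2 ht))

/-- The index of a restriction is at most the index. -/
theorem index_restrict_le (i : B ⟶ A) [IsMonHom i] {L : A.left.Modules} (hL : PicF.IsInvertible L) {s : ℕ}
    (h : Conc L s) {LB : B.left.Modules} (hLB : PicF.IsInvertible LB) {t : ℕ} (hB : Conc LB t)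
    (hc : PicGrp.cls LB hLB = pb i (PicGrp.cls L hL)) : t ≤ s := by
  obtain ⟨C, gC, pC, iC, j, hj, -, hσ, hf, hfl, hs, hbox⟩ := exists_complement i (PicGrp.cls L hL)
    (hc ▸ nd_of_conc hLB hB)
  haveI := hσ
  haveI := hf
  haveI := hfl
  haveI := hs
  obtain ⟨hndσ, hconc⟩ := conc_pullback ((fst B C ≫ i) * (snd B C ≫ j)) hL h
  have hσc : PicGrp.cls _ (PicLoc.isInvertible_pullback ((fst B C ≫ i) * (snd B C ≫ j)).left hL) =
      pb ((fst B C ≫ i) * (snd B C ≫ j)) (PicGrp.cls L hL) := (PicGrp.pullHom_cls _ _ _ _).symm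
  set LC := (Scheme.Modules.pullback j.left).obj L with hLCdef
  have hLC : PicF.IsInvertible LC := PicLoc.isInvertible_pullback _ hL
  have hjc : PicGrp.cls LC hLC = pb j (PicGrp.cls L hL) := (PicGrp.pullHom_cls _ _ _ _).symm
  rw [hσc, hbox] at hndσ
  have hndC : Nd (pb j (PicGrp.cls L hL)) := by
    refine Set.Finite.of_finite_image (f := fun a => lift (1 : 𝟙_ _ ⟶ B) a) (hndσ.subset ?_)
      fun a _ b _ hab => ?_
    · rintro _ ⟨a, ha, rfl⟩
      have ha' : pb (𝟙 C * (toUnit C ≫ a)) (pb j (PicGrp.cls L hL)) = pb j (PicGrp.cls L hL) := ha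
      show pb _ (boxC _ _) = boxC _ _
      rw [boxC, map_mul, pb_pb _ (fst B C), pb_pb _ (snd B C), MonObj.mul_comp, MonObj.mul_comp, Category.id_comp, Category.id_comp,
        Category.assoc, Category.assoc, lift_fst, lift_snd, MonObj.comp_one, _root_.mul_one,
        show snd B C * (toUnit (B ⊗ C) ≫ a) = snd B C ≫ (𝟙 C * (toUnit C ≫ a)) by
          rw [MonObj.comp_mul, Category.comp_id, comp_toUnit_assoc], ← pb_pb, ha']
    · simpa using congrArg (fun p => p ≫ snd B C) hab
  obtain ⟨g, hg⟩ := exists_dim (A := C)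
  obtain ⟨D, hD, eD⟩ := M2.exists_inverse hLC
  obtain ⟨n, -, hn, -⟩ := exists_index hLC (hjc ▸ hndC) hD eD hg
  obtain ⟨hT, hTc⟩ := exists_cls_box hLB hLC
  obtain ⟨e⟩ := (PicGrp.cls_eq_cls_iff (PicLoc.isInvertible_pullback ((fst B C ≫ i) * (snd B C ≫ j)).left hL) hT).1
    (by rw [hσc, hbox, hTc, hc, hjc])
  have := (hconc.congr e).unique (conc_box hLB hLC hB hn).2
  omega

end Groth.Agent.Index22

namespace Groth.Agent.Index22

open AlgEquiv22 MumVan22

variable {k : Type u} [Field k] [IsAlgClosed k] {X : Over (Spec (CommRingCat.of k))} [GrpObj X] [IsProper X.hom]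
  [GeometricallyIntegral X.hom]

noncomputable local instance instLawIdx6 (Y : Scheme.{u}) : PicGrp.Law Y := M2.law Y

/-- The index is subadditive. -/
theorem index_tensor_le {L₁ L₂ M : X.left.Modules} (h₁ : PicF.IsInvertible L₁) (h₂ : PicF.IsInvertible L₂)
    (e : M ≅ CohB1.tensorMod L₁ L₂) {i₁ i₂ i : ℕ} (c₁ : Conc L₁ i₁) (c₂ : Conc L₂ i₂) (c : Conc M i) :
    i ≤ i₁ + i₂ := by
  haveI := isCommMonObj_of_isProper_of_geometricallyIntegral X
  obtain ⟨hT, hTc⟩ := exists_cls_box h₁ h₂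
  have hM : PicF.IsInvertible (CohB1.tensorMod L₁ L₂) := M2.isInvertible_tensor h₁ h₂
  refine index_restrict_le (lift (𝟙 X) (𝟙 X)) hT (conc_box h₁ h₂ c₁ c₂) hM (c.congr e) ?_
  rw [hTc, boxC, map_mul, pb_pb, pb_pb, lift_fst, lift_snd, pb_id, pb_id]
  apply Subtype.ext
  rw [PicGrp.mul_val, PicGrp.cls_val, PicGrp.cls_val, PicGrp.cls_val, PicGrp.mulCl_cl]

end Groth.Agent.Index22
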