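import Groth.Agent.Lib.Index22.Twist
import Groth.Agent.Lib.MumVan22.Vanish
import Groth.Agent.Lib.BorelFix21.BaseChange

/-!
# The index over an arbitrary field
-/

universe u

open CategoryTheory Limits MonoidalCategory CartesianMonoidalCategory AlgebraicGeometry TopologicalSpace Opposite
open scoped MonObj GrpObj

set_option autoImplicit false
set_option linter.style.haveILetI false
set_option linter.unusedSectionVars false
set_option maxHeartbeats 1000000
set_option backward.isDefEq.respectTransparency false

noncomputable section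

namespace Groth.Agent.Index22

open scoped CategoryTheory.Obj

variable {k : Type u} [Field k] {A B : Over (Spec (CommRingCat.of k))}

variable (k) in
/-- The base change to an algebraic closure. -/
abbrev φbar : Spec (CommRingCat.of (AlgebraicClosure k)) ⟶ Spec (CommRingCat.of k) :=
  Spec.map (CommRingCat.ofHom (algebraMap k (AlgebraicClosure k)))

/-- The geometric fibre. -/
abbrev bar (A : Over (Spec (CommRingCat.of k))) : Over (Spec (CommRingCat.of (AlgebraicClosure k))) :=
  (Over.pullback (φbar k)).obj A

/-- The projection from the geometric fibre. -/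
abbrev prj (A : Over (Spec (CommRingCat.of k))) : (bar A).left ⟶ A.left := pullback.fst A.hom (φbar k)

instance isProper_bar [IsProper A.hom] : IsProper (bar A).hom :=
  MorphismProperty.pullback_snd _ _ inferInstance

instance geometricallyIntegral_bar [GeometricallyIntegral A.hom] : GeometricallyIntegral (bar A).hom :=
  MorphismProperty.pullback_snd _ _ inferInstance

theorem topologicalKrullDim_bar [LocallyOfFiniteType A.hom] :
    topologicalKrullDim (bar A).left = topologicalKrullDim A.left :=
  FibDim4.topologicalKrullDim_eq_of_isPullback _ (Semifield.toIsField k)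
    (Semifield.toIsField (AlgebraicClosure k)) A.hom _ _ (IsPullback.of_hasPullback A.hom (φbar k))

variable [IsProper A.hom]

theorem subsingleton_bar_iff {N : A.left.Modules} (hN : PicF.IsInvertible N) (n : ℕ) :
    Subsingleton (Coh.HH (bar A).left ((Scheme.Modules.pullback (prj A)).obj N) n) ↔
      Subsingleton (Coh.HH A.left N n) := by
  letI : A.left.Over (Spec (CommRingCat.of k)) := ⟨A.hom⟩
  letI : (bar A).left.Over (Spec (CommRingCat.of (AlgebraicClosure k))) := ⟨(bar A).hom⟩
  haveI : CompactSpace A.left := QuasiCompact.compactSpace_of_compactSpace A.hom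
  haveI : QuasiSeparatedSpace A.left := quasiSeparatedSpace_of_quasiSeparated A.hom
  obtain ⟨e⟩ := CohBC18.nonempty_HH_bc (k := k) A.left (AlgebraicClosure k) N
    (M2.isQCoh_of_isFinLocFree (M2.isFinLocFree_of_isInvertible hN)) n
  refine e.toEquiv.subsingleton_congr.symm.trans ⟨fun h => ?_, fun h => inferInstance⟩
  by_contra h'
  rw [not_subsingleton_iff_nontrivial] at h'
  exact not_subsingleton_iff_nontrivial.2 (inferInstance :
    Nontrivial (TensorProduct k (AlgebraicClosure k) (Coh.HH A.left N n))) h

theorem conc_bar_iff {N : A.left.Modules} (hN : PicF.IsInvertible N) (i : ℕ) :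
    Conc ((Scheme.Modules.pullback (prj A)).obj N) i ↔ Conc N i := by
  simp only [Conc, ← not_subsingleton_iff_nontrivial, subsingleton_bar_iff hN]

variable [GrpObj A] [GeometricallyIntegral A.hom] [GrpObj B] [IsProper B.hom] [GeometricallyIntegral B.hom]

/-- Isogenies preserve the index over any field. -/
theorem conc_pullback_field (f : A ⟶ B) [IsMonHom f] [IsFinite f.left] [Flat f.left] [Surjective f.left]
    {L : B.left.Modules} (hL : PicF.IsInvertible L) {i : ℕ} (h : Conc L i) :
    Conc ((Scheme.Modules.pullback f.left).obj L) i := by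
  let fb : bar A ⟶ bar B := (Over.pullback (φbar k)).map f
  have hsq := BorelFix21.isPullback_bc_map (φbar k) f
  haveI : IsFinite fb.left := MorphismProperty.of_isPullback (P := @IsFinite) hsq ‹_›
  haveI : Flat fb.left := MorphismProperty.of_isPullback (P := @Flat) hsq ‹_›
  haveI : Surjective fb.left := BorelFix21.surjective_bc _ f
  obtain ⟨-, h'⟩ := conc_pullback fb (PicLoc.isInvertible_pullback (prj B) hL) ((conc_bar_iff hL i).2 h)
  refine (conc_bar_iff (PicLoc.isInvertible_pullback f.left hL) i).1 (h'.congr ?_)
  exact (Scheme.Modules.pullbackComp fb.left (prj B)).app L ≪≫ (Scheme.Modules.pullbackCongr hsq.w.symm).app L ≪≫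
    ((Scheme.Modules.pullbackComp (prj A) f.left).app L).symm

/-- The inverse has the complementary index, over any field. -/
theorem conc_inverse_field {g : ℕ} (hg : topologicalKrullDim A.left = g) {L L' : A.left.Modules}
    (hL : PicF.IsInvertible L) (hL' : Nonempty (CohB1.tensorMod L L' ≅ Coh.structureModule A.left)) {i : ℕ}
    (h : Conc L i) : i ≤ g ∧ Conc L' (g - i) := by
  have hL'i : PicF.IsInvertible L' := M2.isInvertible_of_tensor_iso hL (M2.tensorComm _ _ ≪≫ hL'.some)
  obtain ⟨e⟩ := hL'
  have hb := (conc_bar_iff hL i).2 h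
  obtain ⟨j, hj, hjL, hjD⟩ := exists_index (PicLoc.isInvertible_pullback (prj A) hL)
    (nd_of_conc (PicLoc.isInvertible_pullback (prj A) hL) hb) (PicLoc.isInvertible_pullback (prj A) hL'i)
    ⟨(M2.pullTensorIso (prj A) L L').symm ≪≫ (Scheme.Modules.pullback (prj A)).mapIso e ≪≫
      PicLoc.pullbackStructureIso (prj A)⟩ ((topologicalKrullDim_bar (A := A)).trans hg)
  obtain rfl : i = j := hjL.unique hb.2
  exact ⟨hj, (conc_bar_iff hL'i _).1 hjD⟩

/-- The square power over any field. -/
theorem conc_sq_field {L : A.left.Modules} (hL : PicF.IsInvertible L) {i : ℕ} (h : Conc L i) {m : ℕ} (hm : 0 < m) :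
    Conc (CohB1.tensorPow L (m ^ 2)) i :=
  (conc_bar_iff (M2.isInvertible_tensorPow hL _) i).1
    ((conc_sq (PicLoc.isInvertible_pullback (prj A) hL) ((conc_bar_iff hL i).2 h) hm).congr
      (M2.pullTensorPowIso (prj A) L _).symm)

end Groth.Agent.Index22
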