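import Groth.Agent.Lib.Index22.Concentrated
import Groth.Agent.Lib.MumVan22.DegenEuler
import Groth.Agent.Lib.Kunneth22.Shift
import Groth.Agent.Lib.FibDim4.Basic
import Groth.Agent.Lib.GrpField.Dim
import Groth.Agent.Lib.SmoothReg17.Basic

/-!
# The exterior product `(f^*L)^{-1} ⊠ L` has cohomology in one degree
-/

universe u

open CategoryTheory Limits MonoidalCategory CartesianMonoidalCategory AlgebraicGeometry TopologicalSpace Opposite
open scoped MonObj GrpObj

set_option autoImplicit false
set_option linter.style.haveILetI false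
set_option linter.unusedSectionVars false
set_option maxHeartbeats 1000000
set_option backward.isDefEq.respectTransparency false

noncomputable section

namespace Groth.Agent.Index22

open AlgEquiv22 MumVan22

noncomputable local instance instLawIdx (Y : Scheme.{u}) : PicGrp.Law Y := M2.law Y

variable {k : Type u} [Field k] {A B : Over (Spec (CommRingCat.of k))}

/-- Nondegeneracy of a class: finitely many rational translations fix it. -/
abbrev Nd [GrpObj B] (c : PicLoc.PicSet B.left) : Prop :=
  {a : 𝟙_ (Over (Spec (CommRingCat.of k))) ⟶ B | pb (𝟙 B * (toUnit B ≫ a)) c = c}.Finite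

/-- The fibres of a projection have the dimension of the factor. -/
theorem dim_fibre_snd [LocallyOfFiniteType A.hom] (w : B.left) :
    topologicalKrullDim ↥((snd A B).left ⁻¹' {w} : Set (A ⊗ B).left) = topologicalKrullDim A.left := by
  rw [← VanFib13.dim_fiber]
  let ρ : Spec (B.left.residueField w) ⟶ B.left := B.left.fromSpecResidueField w
  obtain ⟨φ, hφ⟩ := Spec.map_surjective (ρ ≫ B.hom)
  refine FibDim4.topologicalKrullDim_eq_of_isPullback φ (Semifield.toIsField k)
    (Semifield.toIsField (B.left.residueField w)) A.hom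
    (pullback.fst (snd A B).left ρ ≫ pullback.fst A.hom B.hom) (pullback.snd _ _) ?_
  rw [hφ]
  exact (IsPullback.of_hasPullback (pullback.snd A.hom B.hom) ρ).paste_horiz
    (IsPullback.of_hasPullback A.hom B.hom)

/-- A finite morphism does not increase the dimension. -/
theorem dim_le_of_isFinite {X Y : Scheme.{u}} (f : X ⟶ Y) [IsFinite f] :
    topologicalKrullDim X ≤ topologicalKrullDim Y :=
  H12.topologicalKrullDim_le_of_eq_of_specializes f f.continuous
    fun _ _ h he => H12.eq_of_specializes_of_isIntegralHom f h he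

variable [GrpObj A] [IsProper A.hom] [GeometricallyIntegral A.hom] [GrpObj B] [IsProper B.hom]
  [GeometricallyIntegral B.hom]

theorem isPullback_sl (y : 𝟙_ (Over (Spec (CommRingCat.of k))) ⟶ B) :
    IsPullback (sl A y).left A.hom (snd A B).left y.left := by
  have hg : y.left ≫ B.hom = 𝟙 (Spec (CommRingCat.of k)) := Over.w y
  refine IsPullback.of_right ?_ ?_ (IsPullback.of_hasPullback A.hom B.hom)
  · have h1 : (sl A y).left ≫ pullback.fst A.hom B.hom = 𝟙 A.left := congrArg CommaMorphism.left (lift_fst (𝟙 A) _)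
    rw [h1, hg]
    exact IsPullback.of_horiz_isIso ⟨by rw [Category.comp_id]; exact Category.id_comp _⟩
  · rw [← Over.comp_left, lift_snd, Over.comp_left, Over.toUnit_left]

variable [IsAlgClosed k] (f : A ⟶ B) [IsMonHom f]

/-- Pullback along a homomorphism preserves translation invariance. -/
theorem inv_pb {c : PicLoc.PicSet B.left} (h : Inv c) : Inv (pb f c) := fun a => by
  have e : (𝟙 A * (toUnit A ≫ a)) ≫ f = f ≫ (𝟙 B * (toUnit B ≫ a ≫ f)) := by
    rw [MonObj.mul_comp, MonObj.comp_mul, Category.id_comp, Category.comp_id, Category.assoc, comp_toUnit_assoc]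
  rw [pb_pb, e, ← pb_pb, h (a ≫ f)]

/-- The class on the product whose fibres are the pullbacks of `T_y^*L ⊗ L^{-1}`. -/
abbrev pairClass (c : PicLoc.PicSet B.left) : PicLoc.PicSet (A ⊗ B).left :=
  pb ((fst A B ≫ f) * snd A B) c * (pb (fst A B) (pb f c))⁻¹

theorem pb_sl_pairClass (c : PicLoc.PicSet B.left) (y : 𝟙_ (Over (Spec (CommRingCat.of k))) ⟶ B) :
    pb (sl A y) (pairClass f c) = pb f (pb (𝟙 B * (toUnit B ≫ y)) c * c⁻¹) := by
  simp only [pairClass, map_mul, map_inv, pb_pb, MonObj.comp_mul, lift_fst, lift_snd, lift_fst_assoc,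
    Category.id_comp, Category.comp_id, comp_toUnit_assoc]

variable [IsFinite f.left] [Surjective f.left]

theorem finite_bad {c : PicLoc.PicSet B.left} (hnd : Nd (pb f c)) :
    {y : 𝟙_ (Over (Spec (CommRingCat.of k))) ⟶ B | pb f (pb (𝟙 B * (toUnit B ≫ y)) c * c⁻¹) = 1}.Finite := by
  haveI : JacobsonSpace A.left := LocallyOfFiniteType.jacobsonSpace A.hom
  refine (hnd.image fun x => x ≫ f).subset fun y hy => ?_
  obtain ⟨z, hz⟩ := f.left.surjective (CubeField.rpt y)
  obtain ⟨x₀, hx₀, hxc⟩ := nonempty_inter_closedPoints (Z := f.left ⁻¹' {CubeField.rpt y}) ⟨z, hz⟩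
    ((isClosed_rpt y).preimage f.left.continuous).isLocallyClosed
  obtain ⟨x, rfl⟩ := CubeField.exists_rpt (X := A) hxc
  have hxy : x ≫ f = y := CubeField.rpt_injective (by rw [CubeField.rpt_comp]; exact hx₀)
  refine ⟨x, ?_, hxy⟩
  have e : (𝟙 A * (toUnit A ≫ x)) ≫ f = f ≫ (𝟙 B * (toUnit B ≫ y)) := by
    rw [MonObj.mul_comp, MonObj.comp_mul, Category.id_comp, Category.comp_id, Category.assoc, comp_toUnit_assoc, hxy]
  show pb (𝟙 A * (toUnit A ≫ x)) (pb f c) = pb f c
  rw [pb_pb, e, ← pb_pb, ← mul_inv_eq_one, ← map_inv, ← map_mul]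
  exact hy

variable {c : PicLoc.PicSet B.left} (hnd : Nd (pb f c)) {M : (A ⊗ B).left.Modules} (hM : PicF.IsInvertible M)
  (hc : PicGrp.cls M hM = pairClass f c)

/-- The points over which the fibres may fail to be acyclic. -/
abbrev badSet : Set B.left :=
  CubeField.rpt '' {y : 𝟙_ (Over (Spec (CommRingCat.of k))) ⟶ B | pb f (pb (𝟙 B * (toUnit B ≫ y)) c * c⁻¹) = 1}

include hnd in
theorem isClosed_badSet : IsClosed (badSet f (c := c)) := by
  rw [← Set.biUnion_of_singleton (badSet f (c := c))]
  exact ((finite_bad f hnd).image _).isClosed_biUnion fun s hs => by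
    obtain ⟨y, -, rfl⟩ := hs
    exact isClosed_rpt y

include hnd hc in
theorem fibres_outside :
    haveI : IsProper (snd A B).left := inferInstanceAs (IsProper (pullback.snd A.hom B.hom))
    ∀ z ∉ badSet f (c := c), ∀ p, Subsingleton (CohIII.fiberH (snd A B).left M z p) := by
  haveI : IsProper (snd A B).left := inferInstanceAs (IsProper (pullback.snd A.hom B.hom))
  haveI : Flat (snd A B).left := AbRigid.flat_snd_left A B
  have hcoh := CubeField.isCoh_of_isInvertible hM
  intro z hz p
  refine fibres_of_closed (snd A B).left hcoh (isFlatOver_proj (snd A B) hM)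
    (O := ⟨(badSet f (c := c))ᶜ, (isClosed_badSet f hnd).isOpen_compl⟩) (fun y hy q => ?_) z hz p
  have e : pb (sl A y) (PicGrp.cls M hM) = pb f (pb (𝟙 B * (toUnit B ≫ y)) c * c⁻¹) := by
    rw [hc, pb_sl_pairClass]
  refine (subsingleton_fiber_iff (snd A B) _ y (isPullback_sl y) hM q).2 (subsingleton_slice (sl A y) hM ?_ ?_ q)
  · rw [e]
    exact inv_pb f (inv_translate_div c y)
  · rw [e]
    exact fun h => hy ⟨y, h, rfl⟩

include hnd hc in
/-- Concentration in one degree. -/
theorem subsingleton_pair {g : ℕ} (hg : topologicalKrullDim B.left = g) {n : ℕ} (hn : n ≠ g) :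
    Subsingleton (Coh.HH (A ⊗ B).left M n) := by
  haveI : IsProper (snd A B).left := inferInstanceAs (IsProper (pullback.snd A.hom B.hom))
  haveI : Flat (snd A B).left := AbRigid.flat_snd_left A B
  haveI : IsLocallyNoetherian B.left := LocallyOfFiniteType.isLocallyNoetherian B.hom
  haveI : CompactSpace B.left := QuasiCompact.compactSpace_of_compactSpace B.hom
  haveI : IsNoetherian B.left := {}
  haveI : Smooth B.hom :=
    @smooth_of_grpObj k _ _ B.hom _ (show GrpObj (Over.mk B.hom) from ‹GrpObj B›) _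
  refine subsingleton_HH_of_finite (snd A B).left (CubeField.isCoh_of_isInvertible hM)
    (isFlatOver_proj (snd A B) hM) g (fun y _ => SmoothReg17.isRegularLocalRing_stalk B.hom y)
    (fun y hy => (GrpField.ringKrullDim_stalk_eq B y hy).trans hg) (fun w => ?_) ((finite_bad f hnd).image _) ?_
    (fibres_outside f hnd hM hc) hn
  · rw [dim_fibre_snd, ← hg]
    exact dim_le_of_isFinite f.left
  · rintro _ ⟨y, -, rfl⟩
    exact isClosed_rpt y

/-- The shear. -/
abbrev shear : A ⊗ B ⟶ A ⊗ B := lift (fst A B) ((fst A B ≫ f) * snd A B)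

omit [IsFinite f.left] [Surjective f.left] in
theorem isIso_shear : IsIso (shear f) := by
  haveI := isCommMonObj_of_isProper_of_geometricallyIntegral B
  refine ⟨lift (fst A B) ((fst A B ≫ f)⁻¹ * snd A B), ?_, ?_⟩
  · refine CartesianMonoidalCategory.hom_ext _ _ (by simp) ?_
    simp only [shear, Category.assoc, lift_snd, MonObj.comp_mul, GrpObj.comp_inv, lift_fst_assoc, Category.id_comp,
      lift_snd, inv_mul_cancel_left]
  · refine CartesianMonoidalCategory.hom_ext _ _ (by simp) ?_
    simp only [shear, Category.assoc, lift_snd, MonObj.comp_mul, lift_fst_assoc, Category.id_comp,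
      mul_inv_cancel_left]

omit [IsFinite f.left] [Surjective f.left] in
/-- The exterior product and the sheared module have the same cohomology. -/
theorem exists_pair {L : B.left.Modules} (hL : PicF.IsInvertible L) {D : A.left.Modules} (hD : PicF.IsInvertible D)
    (hDc : PicGrp.cls D hD = (pb f (PicGrp.cls L hL))⁻¹) :
    ∃ (M : (A ⊗ B).left.Modules) (hM : PicF.IsInvertible M), PicGrp.cls M hM = pairClass f (PicGrp.cls L hL) ∧
      ∀ n, Subsingleton (Coh.HH (A ⊗ B).left M n) ↔ Subsingleton (Coh.HH (A ⊗ B).left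
        (CohB1.tensorMod ((Scheme.Modules.pullback (fst A B).left).obj D)
          ((Scheme.Modules.pullback (snd A B).left).obj L)) n) := by
  set T := CohB1.tensorMod ((Scheme.Modules.pullback (fst A B).left).obj D)
    ((Scheme.Modules.pullback (snd A B).left).obj L)
  have hT : PicF.IsInvertible T :=
    M2.isInvertible_tensor (PicLoc.isInvertible_pullback _ hD) (PicLoc.isInvertible_pullback _ hL)
  haveI := isIso_shear f
  haveI : IsIso (shear f).left := inferInstanceAs (IsIso ((Over.forget _).map (shear f)))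
  refine ⟨_, PicLoc.isInvertible_pullback (shear f).left hT, ?_, fun n => subsingleton_HH_iso_iff _ hT n⟩
  have h1 : PicGrp.cls T hT = pb (fst A B) (PicGrp.cls D hD) * pb (snd A B) (PicGrp.cls L hL) := by
    apply Subtype.ext
    rw [pb, pb, PicGrp.pullHom_cls, PicGrp.pullHom_cls, PicGrp.mul_val, PicGrp.cls_val, PicGrp.cls_val,
      PicGrp.cls_val, PicGrp.mulCl_cl]
  have h2 : PicGrp.cls _ (PicLoc.isInvertible_pullback (shear f).left hT) = pb (shear f) (PicGrp.cls T hT) :=
    (PicGrp.pullHom_cls _ _ _ _).symm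
  rw [h2, h1, hDc]
  simp only [pairClass, shear, map_mul, map_inv, pb_pb, lift_fst, lift_snd, lift_fst_assoc]
  exact mul_comm _ _

include hnd in
/-- Degrees of nonvanishing add up to the dimension. -/
theorem add_eq_dim {L : B.left.Modules} (hL : PicF.IsInvertible L) (hLc : PicGrp.cls L hL = c)
    {D : A.left.Modules} (hD : PicF.IsInvertible D) (hDc : PicGrp.cls D hD = (pb f c)⁻¹)
    {g : ℕ} (hg : topologicalKrullDim B.left = g) {i j : ℕ} (hi : Nontrivial (Coh.HH A.left D i))
    (hj : Nontrivial (Coh.HH B.left L j)) : i + j = g := by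
  subst hLc
  by_contra hne
  obtain ⟨M, hM, hc, hiff⟩ := exists_pair f hL hD hDc
  have h1 := (hiff (i + j)).1 (subsingleton_pair f hnd hM hc hg hne)
  haveI := Kunneth22.nontrivial_HH_boxTensor (IsPullback.of_hasPullback A.hom B.hom)
    (M2.isQCoh_of_isFinLocFree (M2.isFinLocFree_of_isInvertible hD)) hL hi hj
  exact not_subsingleton_iff_nontrivial.2 this h1

/-- A nondegenerate module has some cohomology. -/
theorem exists_nontrivial {L : A.left.Modules} (hL : PicF.IsInvertible L) (hnd : Nd (PicGrp.cls L hL)) :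
    ∃ i : ℕ, Nontrivial (Coh.HH A.left L i) := by
  by_contra hall
  push Not at hall
  obtain ⟨D, hD, ⟨e⟩⟩ := M2.exists_inverse hL
  have hDc : PicGrp.cls D hD = (pb (𝟙 A) (PicGrp.cls L hL))⁻¹ := by
    rw [pb_id]
    refine eq_inv_of_mul_eq_one_right ?_
    apply Subtype.ext
    rw [PicGrp.mul_val, PicGrp.cls_val, PicGrp.cls_val, PicGrp.mulCl_cl, PicGrp.one_val]
    exact (PicGrp.cl_eq_cl_iff _ _).2 ⟨e⟩
  haveI : IsFinite (𝟙 A : A ⟶ A).left := by rw [Over.id_left]; infer_instance
  haveI : Surjective (𝟙 A : A ⟶ A).left := by rw [Over.id_left]; infer_instance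
  have hnd' : Nd (pb (𝟙 A) (PicGrp.cls L hL)) := by rwa [pb_id]
  obtain ⟨M, hM, hc, hiff⟩ := exists_pair (𝟙 A) hL hD hDc
  haveI : IsProper (fst A A).left := inferInstanceAs (IsProper (pullback.fst A.hom A.hom))
  haveI : Flat A.hom := inferInstance
  haveI : Flat (fst A A).left := inferInstanceAs (Flat (pullback.fst A.hom A.hom))
  haveI : IsProper (snd A A).left := inferInstanceAs (IsProper (pullback.snd A.hom A.hom))
  haveI : Flat (snd A A).left := AbRigid.flat_snd_left A A
  haveI : IsLocallyNoetherian A.left := LocallyOfFiniteType.isLocallyNoetherian A.hom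
  haveI : CompactSpace A.left := QuasiCompact.compactSpace_of_compactSpace A.hom
  haveI : IsNoetherian A.left := {}
  set T := CohB1.tensorMod ((Scheme.Modules.pullback (fst A A).left).obj D)
    ((Scheme.Modules.pullback (snd A A).left).obj L)
  have hT : PicF.IsInvertible T :=
    M2.isInvertible_tensor (PicLoc.isInvertible_pullback _ hD) (PicLoc.isInvertible_pullback _ hL)
  -- slices of the exterior product along the first projection are `L`
  have hT0 : Van (fst A A).left T ⊤ := by
    refine van_of_fibres_qc (fst A A).left (CubeField.isCoh_of_isInvertible hT) (isFlatOver_proj (fst A A) hT)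
      (fibres_of_closed _ (CubeField.isCoh_of_isInvertible hT) (isFlatOver_proj (fst A A) hT) (O := ⊤)
        fun t _ p => ?_) isCompact_univ le_top
    refine (subsingleton_fiber_iff (fst A A) _ t (isPullback_slice_fst t) hT p).2 ?_
    obtain ⟨j⟩ : Nonempty ((Scheme.Modules.pullback (lift (toUnit A ≫ t) (𝟙 A)).left).obj T ≅ L) := by
      refine (PicGrp.cls_eq_cls_iff (PicLoc.isInvertible_pullback _ hT) hL).1 ?_
      have h1 : PicGrp.cls T hT = pb (fst A A) (PicGrp.cls D hD) * pb (snd A A) (PicGrp.cls L hL) := by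
        apply Subtype.ext
        rw [pb, pb, PicGrp.pullHom_cls, PicGrp.pullHom_cls, PicGrp.mul_val, PicGrp.cls_val, PicGrp.cls_val,
          PicGrp.cls_val, PicGrp.mulCl_cl]
      have h2 : PicGrp.cls _ (PicLoc.isInvertible_pullback (lift (toUnit A ≫ t) (𝟙 A)).left hT) =
          pb (lift (toUnit A ≫ t) (𝟙 A)) (PicGrp.cls T hT) := (PicGrp.pullHom_cls _ _ _ _).symm
      rw [h2, h1]
      simp only [map_mul, pb_pb, lift_fst, lift_snd, pb_const, pb_id, _root_.one_mul]
    haveI := hall p
    exact (CBC10.hmapEquiv j p).toEquiv.subsingleton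
  have htop : ∀ n, Subsingleton (Coh.HH (A ⊗ A).left M n) := fun n =>
    (hiff n).2 ((CohFound.subsingleton_HH_iff T n).2 (hT0 n))
  -- the neutral fibre is acyclic
  set e0 : 𝟙_ (Over (Spec (CommRingCat.of k))) ⟶ A := 1
  obtain ⟨U0, hU0, heU0, hU0R⟩ := exists_isAffineOpen_mem_and_subset (X := A.left) (x := CubeField.rpt e0)
    (U := ⟨(badSet (𝟙 A) (c := PicGrp.cls L hL) \ {CubeField.rpt e0})ᶜ, by
      rw [← Set.biUnion_of_singleton (badSet (𝟙 A) (c := PicGrp.cls L hL) \ {CubeField.rpt e0})]
      exact ((((finite_bad (𝟙 A) hnd').image CubeField.rpt).subset Set.sdiff_subset).isClosed_biUnion fun s hs => by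
        obtain ⟨⟨y, -, rfl⟩, -⟩ := hs
        exact isClosed_rpt y).isOpen_compl⟩)
    (fun h => h.2 rfl)
  let U1 : A.left.Opens := ⟨({CubeField.rpt e0} : Set A.left)ᶜ, (isClosed_rpt e0).isOpen_compl⟩
  have hVI : Van (snd A A).left M (U0 ⊓ U1) := van_of_fibres_qc (snd A A).left (CubeField.isCoh_of_isInvertible hM)
    (isFlatOver_proj (snd A A) hM) (O := U0 ⊓ U1)
    (fun z hz => fibres_outside (𝟙 A) hnd' hM hc z fun hzS => hU0R hz.1 ⟨hzS, hz.2⟩)
    (NoetherianSpace.isCompact _) le_rfl
  have hsup : U0 ⊔ U1 = ⊤ := top_le_iff.1 fun w _ => by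
    by_cases hw : w = CubeField.rpt e0
    · exact Or.inl (hw ▸ heU0)
    · exact Or.inr hw
  have hV : Van (snd A A).left M (U0 ⊔ U1) := fun n => by
    rw [hsup]
    exact (CohFound.subsingleton_HH_iff M n).1 (htop n)
  have h0 := (subsingleton_fiber_iff (snd A A) _ e0 (isPullback_sl e0) hM 0).1
    (fibres_of_van (snd A A).left (CubeField.isCoh_of_isInvertible hM) (isFlatOver_proj (snd A A) hM) hU0
      (van_left _ hV hVI) heU0 0)
  refine not_subsingleton_iff_nontrivial.2 (nontrivial_of_triv (PicLoc.isInvertible_pullback _ hM) ?_) h0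
  rw [isTriv_iff _ hM, hc, pb_sl_pairClass, MonObj.comp_one, _root_.mul_one, pb_id, pb_id, mul_inv_cancel]

end Groth.Agent.Index22
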