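import Groth.Agent.Lib.Index22.Pair
import Groth.Agent.Lib.MumVan22.IsogEuler
import Groth.Agent.Lib.CohFound.ProperFinite

/-!
# The index of a nondegenerate module and its invariance under isogenies
-/

universe u

open CategoryTheory Limits MonoidalCategory CartesianMonoidalCategory AlgebraicGeometry TopologicalSpace Opposite
open scoped MonObj GrpObj

set_option autoImplicit false
set_option linter.style.haveILetI false
set_option linter.unusedSectionVars false
set_option maxHeartbeats 1000000
set_option backward.isDefEq.respectTransparency false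

noncomputable section

namespace Groth.Agent.Index22

open AlgEquiv22 MumVan22

noncomputable local instance instLawIdx2 (Y : Scheme.{u}) : PicGrp.Law Y := M2.law Y

/-- Cohomology concentrated in one degree. -/
def Conc {X : Scheme.{u}} (L : X.Modules) (i : ℕ) : Prop :=
  (∀ j : ℕ, j ≠ i → Subsingleton (Coh.HH X L j)) ∧ Nontrivial (Coh.HH X L i)

theorem Conc.unique {X : Scheme.{u}} {L : X.Modules} {i j : ℕ} (h : Conc L i) (h' : Nontrivial (Coh.HH X L j)) :
    j = i := by
  by_contra hne
  exact not_subsingleton_iff_nontrivial.2 h' (h.1 j hne)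

theorem Conc.congr {X : Scheme.{u}} {L L' : X.Modules} (e : L ≅ L') {i : ℕ} (h : Conc L i) : Conc L' i :=
  ⟨fun j hj => haveI := h.1 j hj; (CBC10.hmapEquiv e j).symm.toEquiv.subsingleton,
    haveI := h.2; (CBC10.hmapEquiv e i).symm.toEquiv.nontrivial⟩

theorem Conc.subsingleton_iff {X Y : Scheme.{u}} {L : X.Modules} {M : Y.Modules} {i : ℕ} (h : Conc L i)
    (h' : Conc M i) (j : ℕ) : Subsingleton (Coh.HH X L j) ↔ Subsingleton (Coh.HH Y M j) := by
  by_cases hj : j = i
  · subst hj
    exact ⟨fun hs => absurd hs (not_subsingleton_iff_nontrivial.2 h.2),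
      fun hs => absurd hs (not_subsingleton_iff_nontrivial.2 h'.2)⟩
  · exact iff_of_true (h.1 j hj) (h'.1 j hj)

/-- A concentrated module has nonzero Euler characteristic. -/
theorem Conc.euler_ne_zero {k : Type u} [Field k] {X : Scheme.{u}} [X.Over (Spec (CommRingCat.of k))]
    [IsProper (X ↘ Spec (CommRingCat.of k))] {L : X.Modules} (hL : Coh.IsCoh L) {i : ℕ} (h : Conc L i) :
    Curv2.euler k X L ≠ 0 := by
  rw [Curv2.euler, finsum_eq_single _ i fun j hj => by
    haveI := h.1 j hj
    rw [Module.finrank_zero_of_subsingleton, Nat.cast_zero, mul_zero]]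
  haveI : Module.Finite k (Coh.HH X L i) := CohFound.finite_HH_of_isProper _ hL i
  haveI := h.2
  exact mul_ne_zero (pow_ne_zero _ (by norm_num)) (Nat.cast_ne_zero.2 Module.finrank_pos.ne')

variable {k : Type u} [Field k] {A B : Over (Spec (CommRingCat.of k))}
  [GrpObj A] [IsProper A.hom] [GeometricallyIntegral A.hom] [GrpObj B] [IsProper B.hom] [GeometricallyIntegral B.hom]

theorem exists_dim : ∃ g : ℕ, topologicalKrullDim A.left = g := by
  haveI : IsIntegral A.left := GeometricallyIntegral.isIntegral_of_subsingleton A.hom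
  exact ⟨_, VarDim.dim_eq_sdim_genericPoint A.hom⟩

omit [IsProper A.hom] [GeometricallyIntegral A.hom] in
/-- Nondegeneracy in the form of the statements. -/
theorem finite_statement_of_nd {L : A.left.Modules} (hL : PicF.IsInvertible L) (h : Nd (PicGrp.cls L hL)) :
    Set.Finite {x : 𝟙_ (Over (Spec (CommRingCat.of k))) ⟶ A |
      Nonempty ((Scheme.Modules.pullback (𝟙 A * (toUnit A ≫ x)).left).obj L ≅ L)} :=
  h.subset fun x hx => by
    rw [Set.mem_setOf_eq] at hx ⊢
    rw [pb, PicGrp.pullHom_cls]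
    exact (PicGrp.cls_eq_cls_iff _ _).2 hx

/-- An inverse of a module as a class. -/
theorem cls_inverse {X : Scheme.{u}} {L D : X.Modules} (hL : PicF.IsInvertible L) (hD : PicF.IsInvertible D)
    (e : Nonempty (CohB1.tensorMod L D ≅ Coh.structureModule X)) : PicGrp.cls D hD = (PicGrp.cls L hL)⁻¹ := by
  refine eq_inv_of_mul_eq_one_right ?_
  apply Subtype.ext
  rw [PicGrp.mul_val, PicGrp.cls_val, PicGrp.cls_val, PicGrp.mulCl_cl, PicGrp.one_val]
  exact (PicGrp.cl_eq_cl_iff _ _).2 e

variable [IsAlgClosed k]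

theorem nd_inv {c : PicLoc.PicSet A.left} (h : Nd c) : Nd c⁻¹ :=
  h.subset fun a ha => by
    rw [Set.mem_setOf_eq, map_inv, inv_inj] at ha
    exact ha

/-- A nondegenerate module and its inverse have complementary indices. -/
theorem exists_index {L D : A.left.Modules} (hL : PicF.IsInvertible L) (hnd : Nd (PicGrp.cls L hL))
    (hD : PicF.IsInvertible D) (e : Nonempty (CohB1.tensorMod L D ≅ Coh.structureModule A.left))
    {g : ℕ} (hg : topologicalKrullDim A.left = g) :
    ∃ i : ℕ, i ≤ g ∧ Conc L i ∧ Conc D (g - i) := by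
  haveI : IsFinite (𝟙 A : A ⟶ A).left := by rw [Over.id_left]; infer_instance
  haveI : Surjective (𝟙 A : A ⟶ A).left := by rw [Over.id_left]; infer_instance
  have hnd' : Nd (pb (𝟙 A) (PicGrp.cls L hL)) := by rwa [pb_id]
  have hDc : PicGrp.cls D hD = (pb (𝟙 A) (PicGrp.cls L hL))⁻¹ := by rw [pb_id]; exact cls_inverse hL hD e
  have key : ∀ i j, Nontrivial (Coh.HH A.left D i) → Nontrivial (Coh.HH A.left L j) → i + j = g :=
    fun i j hi hj => add_eq_dim (𝟙 A) hnd' hL rfl hD hDc hg hi hj
  obtain ⟨j, hj⟩ := exists_nontrivial hL hnd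
  have hndD : Nd (PicGrp.cls D hD) := by rw [cls_inverse hL hD e]; exact nd_inv hnd
  obtain ⟨i, hi⟩ := exists_nontrivial hD hndD
  have hij := key i j hi hj
  refine ⟨j, by omega, ⟨fun n hn => ?_, hj⟩, ⟨fun n hn => ?_, ?_⟩⟩
  · by_contra h
    have := key i n hi (not_subsingleton_iff_nontrivial.1 h)
    omega
  · by_contra h
    have := key n j (not_subsingleton_iff_nontrivial.1 h) hj
    omega
  · rwa [show g - j = i by omega]

/-- A concentrated module is nondegenerate. -/
theorem nd_of_euler_ne {L : A.left.Modules} (hL : PicF.IsInvertible L)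
    (h : @Curv2.euler k _ A.left ⟨A.hom⟩ L ≠ 0) : Nd (PicGrp.cls L hL) := by
  by_contra hinf
  exact h (euler_eq_zero_of_infinite hL hinf)

theorem nd_of_conc {L : A.left.Modules} (hL : PicF.IsInvertible L) {i : ℕ} (h : Conc L i) :
    Nd (PicGrp.cls L hL) := by
  letI : A.left.Over (Spec (CommRingCat.of k)) := ⟨A.hom⟩
  haveI : IsProper (A.left ↘ Spec (CommRingCat.of k)) := inferInstanceAs (IsProper A.hom)
  exact nd_of_euler_ne hL (h.euler_ne_zero (CubeField.isCoh_of_isInvertible hL))

/-- An isogeny preserves nondegeneracy and the index. -/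
theorem conc_pullback (f : A ⟶ B) [IsMonHom f] [IsFinite f.left] [Flat f.left] [Surjective f.left]
    {L : B.left.Modules} (hL : PicF.IsInvertible L) {i : ℕ} (h : Conc L i) :
    Nd (PicGrp.cls _ (PicLoc.isInvertible_pullback f.left hL)) ∧
      Conc ((Scheme.Modules.pullback f.left).obj L) i := by
  letI : B.left.Over (Spec (CommRingCat.of k)) := ⟨B.hom⟩
  letI : A.left.Over (Spec (CommRingCat.of k)) := ⟨A.hom⟩
  haveI : IsProper (B.left ↘ Spec (CommRingCat.of k)) := inferInstanceAs (IsProper B.hom)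
  have hLA : PicF.IsInvertible ((Scheme.Modules.pullback f.left).obj L) := PicLoc.isInvertible_pullback f.left hL
  obtain ⟨m, hm, -, -⟩ := IsogEuler22.exists_free f
  have hm1 : m ≠ 0 := fun h0 => by
    have := Scheme.Hom.one_le_finrank_map f.left (η[A].left (IsLocalRing.closedPoint k))
    rw [hm] at this
    omega
  have hnd' : Nd (PicGrp.cls _ hLA) := by
    refine nd_of_euler_ne hLA ?_
    rw [IsogEuler22.euler_pullback f m hm (CubeField.isCoh_of_isInvertible hL)]
    exact mul_ne_zero (Nat.cast_ne_zero.2 hm1) (h.euler_ne_zero (CubeField.isCoh_of_isInvertible hL))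
  obtain ⟨g, hg⟩ := exists_dim (A := B)
  have hgA : topologicalKrullDim A.left = g := le_antisymm (hg ▸ dim_le_of_isFinite f.left)
    (hg ▸ H12.topologicalKrullDim_le_of_surjective_of_lift _ f.left.surjective (Or.inr (Flat.generalizingMap _)))
  obtain ⟨D, hD, e⟩ := M2.exists_inverse hLA
  obtain ⟨j, hj, hLj, hDj⟩ := exists_index hLA hnd' hD e hgA
  have hpb : PicGrp.cls _ hLA = pb f (PicGrp.cls L hL) := (PicGrp.pullHom_cls _ _ _ _).symm
  have hDc : PicGrp.cls D hD = (pb f (PicGrp.cls L hL))⁻¹ := by rw [← hpb]; exact cls_inverse hLA hD e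
  have := add_eq_dim f (hpb ▸ hnd') hL rfl hD hDc hg hDj.2 h.2
  exact ⟨hnd', (show i = j by omega) ▸ hLj⟩

end Groth.Agent.Index22
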