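import Groth.Agent.Lib.Index22.Twist
import Groth.Agent.Lib.AbRigid.Epi
import Groth.Agent.Lib.RatMapAV.Product
import Mathlib.NumberTheory.SumFourSquares
import Mathlib.Tactic.Module

/-!
# The index of a tensor power, via the quaternion isogeny of `A⁴`
-/

universe u

open CategoryTheory Limits MonoidalCategory CartesianMonoidalCategory AlgebraicGeometry TopologicalSpace Opposite
open scoped MonObj GrpObj

set_option autoImplicit false
set_option linter.style.haveILetI false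
set_option linter.unusedSectionVars false
set_option maxHeartbeats 1000000
set_option backward.isDefEq.respectTransparency false

noncomputable section

namespace Groth.Agent.Index22

open AlgEquiv22 MumVan22

noncomputable local instance instLawIdx4 (Y : Scheme.{u}) : PicGrp.Law Y := M2.law Y

variable {k : Type u} [Field k] {A B : Over (Spec (CommRingCat.of k))}

instance isProper_tensor' [IsProper A.hom] [IsProper B.hom] : IsProper (A ⊗ B).hom :=
  inferInstanceAs (IsProper (pullback.fst A.hom B.hom ≫ A.hom))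

instance geometricallyIntegral_tensor' [GrpObj A] [GrpObj B] [IsProper A.hom] [IsProper B.hom]
    [GeometricallyIntegral A.hom] [GeometricallyIntegral B.hom] : GeometricallyIntegral (A ⊗ B).hom :=
  AbRigid.geometricallyIntegral_tensorObj A B

variable [GrpObj A] [IsProper A.hom] [GeometricallyIntegral A.hom] [GrpObj B] [IsProper B.hom]
  [GeometricallyIntegral B.hom]

/-- The exterior product of classes. -/
abbrev boxC (c : PicLoc.PicSet A.left) (d : PicLoc.PicSet B.left) : PicLoc.PicSet (A ⊗ B).left :=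
  pb (fst A B) c * pb (snd A B) d

/-- The exterior product of modules. -/
abbrev boxM (L : A.left.Modules) (M : B.left.Modules) : (A ⊗ B).left.Modules :=
  CohB1.tensorMod ((Scheme.Modules.pullback (fst A B).left).obj L) ((Scheme.Modules.pullback (snd A B).left).obj M)

omit [GrpObj A] [IsProper A.hom] [GeometricallyIntegral A.hom] [GrpObj B] [IsProper B.hom]
  [GeometricallyIntegral B.hom] in
theorem exists_cls_box {L : A.left.Modules} (hL : PicF.IsInvertible L) {M : B.left.Modules}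
    (hM : PicF.IsInvertible M) : ∃ h : PicF.IsInvertible (boxM L M),
      PicGrp.cls (boxM L M) h = boxC (PicGrp.cls L hL) (PicGrp.cls M hM) := by
  refine ⟨M2.isInvertible_tensor (PicLoc.isInvertible_pullback _ hL) (PicLoc.isInvertible_pullback _ hM), ?_⟩
  apply Subtype.ext
  rw [boxC, pb, pb, PicGrp.pullHom_cls, PicGrp.pullHom_cls, PicGrp.mul_val, PicGrp.cls_val, PicGrp.cls_val,
    PicGrp.cls_val, PicGrp.mulCl_cl]

theorem nd_box {c : PicLoc.PicSet A.left} {d : PicLoc.PicSet B.left} (hc : Nd c) (hd : Nd d) : Nd (boxC c d) := by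
  refine ((hc.prod hd).image fun p => lift p.1 p.2).subset fun a ha => ?_
  refine ⟨(a ≫ fst A B, a ≫ snd A B), ⟨?_, ?_⟩, by ext <;> simp⟩
  · have h := congrArg (pb (lift (𝟙 A) (toUnit A ≫ (1 : 𝟙_ _ ⟶ B)))) ha
    simp only [boxC, map_mul, pb_pb, MonObj.mul_comp, MonObj.comp_mul, Category.id_comp, Category.assoc,
      Category.comp_id, lift_fst, lift_snd, comp_toUnit_assoc, lift_fst_assoc, lift_snd_assoc] at h
    rw [← MonObj.comp_mul] at h
    simp only [pb_const, pb_id, _root_.mul_one] at h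
    exact h
  · have h := congrArg (pb (lift (toUnit B ≫ (1 : 𝟙_ _ ⟶ A)) (𝟙 B))) ha
    simp only [boxC, map_mul, pb_pb, MonObj.mul_comp, MonObj.comp_mul, Category.id_comp, Category.assoc,
      Category.comp_id, lift_fst, lift_snd, comp_toUnit_assoc, lift_fst_assoc, lift_snd_assoc] at h
    rw [← MonObj.comp_mul] at h
    simp only [pb_const, pb_id, _root_.one_mul] at h
    exact h

variable [IsAlgClosed k]

/-- The index of an exterior product. -/
theorem conc_box {L : A.left.Modules} (hL : PicF.IsInvertible L) {M : B.left.Modules} (hM : PicF.IsInvertible M)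
    {i j : ℕ} (hi : Conc L i) (hj : Conc M j) : Conc (boxM L M) (i + j) := by
  obtain ⟨hT, hc⟩ := exists_cls_box hL hM
  obtain ⟨g, hg⟩ := exists_dim (A := A ⊗ B)
  obtain ⟨D, hD, e⟩ := M2.exists_inverse hT
  obtain ⟨n, -, hn, -⟩ := exists_index hT (hc ▸ nd_box (nd_of_conc hL hi) (nd_of_conc hM hj)) hD e hg
  have h := Kunneth22.nontrivial_HH_boxTensor (IsPullback.of_hasPullback A.hom B.hom)
    (M2.isQCoh_of_isFinLocFree (M2.isFinLocFree_of_isInvertible hL)) hM hi.2 hj.2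
  exact (hn.unique h).symm ▸ hn

section Bilinear

variable (c : PicLoc.PicSet A.left) {V : Over (Spec (CommRingCat.of k))}

/-- The pairing of a class. -/
def bil (f g : V ⟶ A) : PicLoc.PicSet V.left := pb (f * g) c * (pb f c * pb g c)⁻¹

theorem pb_mul (f g : V ⟶ A) : pb (f * g) c = pb f c * pb g c * bil c f g := by
  rw [bil, mul_comm (pb (f * g) c), mul_inv_cancel_left]

theorem bil_one_left (g : V ⟶ A) : bil c 1 g = 1 := by
  rw [bil, _root_.one_mul, show (1 : V ⟶ A) = toUnit V ≫ 1 from (MonObj.comp_one _).symm, pb_const, _root_.one_mul,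
    mul_inv_cancel]

theorem bil_mul_left (f g h : V ⟶ A) : bil c (f * g) h = bil c f h * bil c g h := by
  obtain ⟨L, hL, rfl⟩ := PicGrp.exists_eq_cls c
  have hP : ∀ f : V ⟶ A, CubeField.P L hL f = pb f (PicGrp.cls L hL) := fun f => (PicGrp.pullHom_cls _ _ _ _).symm
  have h1 := CubeField.square (L := L) (hL := hL) CubeField.finH1 f g h
  simp only [hP] at h1
  simp only [bil]
  apply Additive.ofMul.injective
  have h2 := congrArg Additive.ofMul h1
  simp only [ofMul_mul, ofMul_inv] at h2 ⊢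
  linear_combination (norm := module) (1 : ℤ) • h2

theorem bil_comm (f g : V ⟶ A) : bil c f g = bil c g f := by
  haveI := isCommMonObj_of_isProper_of_geometricallyIntegral A
  rw [bil, bil, mul_comm f, mul_comm (pb f c)]

theorem bil_zpow_left (f g : V ⟶ A) (a : ℤ) : bil c (f ^ a) g = bil c f g ^ a :=
  map_zpow (MonoidHom.mk' (fun f => bil c f g) fun f f' => bil_mul_left c f f' g) f a

theorem bil_zpow (f g : V ⟶ A) (a b : ℤ) : bil c (f ^ a) (g ^ b) = bil c f g ^ (a * b) := by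
  rw [bil_zpow_left, bil_comm, bil_zpow_left, bil_comm, ← zpow_mul, mul_comm]

theorem inv_pow_div (n : ℕ) : Inv (pb (𝟙 A ^ n) c * (c ^ (n * n))⁻¹) := by
  rw [pb_pow_class, mul_inv_cancel_comm]
  exact Inv.pow' (inv_symm_div _) _

theorem inv_zpow_div (a : ℤ) : Inv (pb (𝟙 A ^ a) c * (c ^ (a * a))⁻¹) := by
  obtain ⟨n, rfl | rfl⟩ := Int.eq_nat_or_neg a
  · rw [zpow_natCast, show ((n : ℤ) * n) = ((n * n : ℕ) : ℤ) by push_cast; rfl, zpow_natCast]
    exact inv_pow_div c n
  · set d := pb (𝟙 A)⁻¹ c * c⁻¹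
    have hd : Inv d := inv_symm_div c
    have e : 𝟙 A ^ (-(n : ℤ)) = (𝟙 A ^ n) ≫ (𝟙 A)⁻¹ := by
      rw [GrpObj.comp_inv, Category.comp_id, zpow_neg, zpow_natCast]
    have e2 : (-(n : ℤ)) * -(n : ℤ) = ((n * n : ℕ) : ℤ) := by push_cast; ring
    rw [e, e2, zpow_natCast, ← pb_pb, show pb (𝟙 A)⁻¹ c = d * c from (inv_mul_cancel_right _ _).symm, map_mul,
      _root_.mul_assoc, hd.add.pow, pb_id]
    exact (Inv.pow' hd _).mul (inv_pow_div c n)

end Bilinear

variable (A) in
/-- The fourth power. -/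
abbrev A4 : Over (Spec (CommRingCat.of k)) := (A ⊗ A) ⊗ (A ⊗ A)

variable (A) in
abbrev p1 : A4 A ⟶ A := fst (A ⊗ A) (A ⊗ A) ≫ fst A A

variable (A) in
abbrev p2 : A4 A ⟶ A := fst (A ⊗ A) (A ⊗ A) ≫ snd A A

variable (A) in
abbrev p3 : A4 A ⟶ A := snd (A ⊗ A) (A ⊗ A) ≫ fst A A

variable (A) in
abbrev p4 : A4 A ⟶ A := snd (A ⊗ A) (A ⊗ A) ≫ snd A A

variable (A) in
/-- An integral linear form. -/
abbrev row (a b c d : ℤ) : A4 A ⟶ A := p1 A ^ a * p2 A ^ b * p3 A ^ c * p4 A ^ d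

variable (A) in
/-- Quaternion multiplication on `A⁴`. -/
def quat (a b c d : ℤ) : A4 A ⟶ A4 A :=
  lift (lift (row A a (-b) (-c) (-d)) (row A b a (-d) c)) (lift (row A c d a (-b)) (row A d (-c) b a))

theorem quat_p1 (a b c d : ℤ) : quat A a b c d ≫ p1 A = row A a (-b) (-c) (-d) := by simp [quat]
theorem quat_p2 (a b c d : ℤ) : quat A a b c d ≫ p2 A = row A b a (-d) c := by simp [quat]
theorem quat_p3 (a b c d : ℤ) : quat A a b c d ≫ p3 A = row A c d a (-b) := by simp [quat]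
theorem quat_p4 (a b c d : ℤ) : quat A a b c d ≫ p4 A = row A d (-c) b a := by simp [quat]

theorem comp_row (s : A4 A ⟶ A4 A) (a b c d : ℤ) :
    s ≫ row A a b c d = (s ≫ p1 A) ^ a * (s ≫ p2 A) ^ b * (s ≫ p3 A) ^ c * (s ≫ p4 A) ^ d := by
  simp only [MonObj.comp_mul, GrpObj.comp_zpow]

theorem ext4 {V : Over (Spec (CommRingCat.of k))} {s t : V ⟶ A4 A} (h1 : s ≫ p1 A = t ≫ p1 A)
    (h2 : s ≫ p2 A = t ≫ p2 A) (h3 : s ≫ p3 A = t ≫ p3 A) (h4 : s ≫ p4 A = t ≫ p4 A) : s = t := by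
  apply CartesianMonoidalCategory.hom_ext <;> apply CartesianMonoidalCategory.hom_ext <;> simpa

theorem quat_conj (a b c d : ℤ) (m : ℕ) (hm : a * a + b * b + c * c + d * d = m) :
    quat A a b c d ≫ quat A a (-b) (-c) (-d) = 𝟙 (A4 A) ^ m := by
  haveI := isCommMonObj_of_isProper_of_geometricallyIntegral A
  refine ext4 ?_ ?_ ?_ ?_
  all_goals
    simp only [Category.assoc, quat_p1, quat_p2, quat_p3, quat_p4, comp_row, MonObj.pow_comp, Category.id_comp]
    rw [← zpow_natCast]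
    apply Additive.ofMul.injective
    simp only [ofMul_mul, ofMul_zpow, ← hm]
    module

instance isMonHom_quat (a b c d : ℤ) : IsMonHom (quat A a b c d) := by
  haveI := AbRigid.geometricallyIntegral_tensorObj A A
  haveI : Smooth (A4 A).hom :=
    @smooth_of_grpObj k _ _ (A4 A).hom _ (show GrpObj (Over.mk (A4 A).hom) from inferInstanceAs (GrpObj (A4 A))) _
  refine RatMapAV.isMonHom_of_smooth (A4 A) (A4 A) _ ?_
  have h1 : ∀ (X : Over (Spec (CommRingCat.of k))) [GrpObj X], η[X] = (1 : 𝟙_ _ ⟶ X) := fun X _ => by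
    rw [Hom.one_def, toUnit_unique (toUnit _) (𝟙 _), Category.id_comp]
  refine ext4 ?_ ?_ ?_ ?_
  all_goals
    simp only [Category.assoc, quat_p1, quat_p2, quat_p3, quat_p4, h1, MonObj.comp_mul, GrpObj.comp_zpow,
      MonObj.one_comp, one_zpow, _root_.one_mul, _root_.mul_one]

/-- The quaternion isogeny. -/
theorem quat_isogeny (a b c d : ℤ) (m : ℕ) (hm : a * a + b * b + c * c + d * d = m) (hm0 : 0 < m) :
    IsFinite (quat A a b c d).left ∧ Flat (quat A a b c d).left ∧ Surjective (quat A a b c d).left := by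
  obtain ⟨hf, -, hs⟩ := AVDegree22.isFinite_flat_surjective_pow (A4 A) hm0
  have h1 := quat_conj (A := A) a b c d m hm
  have h2 := quat_conj (A := A) a (-b) (-c) (-d) m (by linarith [neg_mul_neg b b, neg_mul_neg c c, neg_mul_neg d d])
  simp only [neg_neg] at h2
  haveI : IsProper (quat A a (-b) (-c) (-d)).left := by
    haveI : IsProper ((quat A a (-b) (-c) (-d)).left ≫ (A4 A).hom) := by rw [Over.w]; infer_instance
    exact .of_comp _ (A4 A).hom
  haveI : IsFinite ((quat A a b c d).left ≫ (quat A a (-b) (-c) (-d)).left) := by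
    rw [← Over.comp_left, h1]; exact hf
  haveI : IsFinite (quat A a b c d).left := MorphismProperty.of_postcomp @IsFinite _ _ (inferInstance : IsSeparated _) ‹_›
  haveI : Surjective ((quat A a (-b) (-c) (-d)).left ≫ (quat A a b c d).left) := by
    rw [← Over.comp_left, h2]; exact hs
  haveI : Surjective (quat A a b c d).left := Surjective.of_comp (quat A a (-b) (-c) (-d)).left _
  haveI : IsIntegral (A4 A).left := GeometricallyIntegral.isIntegral_of_subsingleton (A4 A).hom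
  exact ⟨inferInstance, AbRigid.flat_of_surjective _ _ _, inferInstance⟩

/-- The fourfold exterior power of a class. -/
abbrev box4 (c : PicLoc.PicSet A.left) : PicLoc.PicSet (A4 A).left := boxC (boxC c c) (boxC c c)

theorem box4_eq (c : PicLoc.PicSet A.left) :
    box4 c = pb (p1 A) c * pb (p2 A) c * pb (p3 A) c * pb (p4 A) c := by
  simp only [box4, boxC, map_mul, pb_pb, ← _root_.mul_assoc]

theorem pb_row (c : PicLoc.PicSet A.left) (a₁ a₂ a₃ a₄ : ℤ) :
    pb (row A a₁ a₂ a₃ a₄) c = pb (p1 A ^ a₁) c * pb (p2 A ^ a₂) c * pb (p3 A ^ a₃) c * pb (p4 A ^ a₄) c *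
      (bil c (p1 A) (p2 A) ^ (a₁ * a₂) * bil c (p1 A) (p3 A) ^ (a₁ * a₃) * bil c (p1 A) (p4 A) ^ (a₁ * a₄) *
        bil c (p2 A) (p3 A) ^ (a₂ * a₃) * bil c (p2 A) (p4 A) ^ (a₂ * a₄) * bil c (p3 A) (p4 A) ^ (a₃ * a₄)) := by
  simp only [row, pb_mul, bil_mul_left, bil_zpow]
  apply Additive.ofMul.injective
  simp only [ofMul_mul, ofMul_zpow]
  module

theorem pb_proj_zpow (c : PicLoc.PicSet A.left) (p : A4 A ⟶ A) (a : ℤ) :
    pb (p ^ a) c = pb p (pb (𝟙 A ^ a) c * (c ^ (a * a))⁻¹) * pb p c ^ (a * a) := by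
  rw [map_mul, map_inv, map_zpow, inv_mul_cancel_right, pb_pb, GrpObj.comp_zpow, Category.comp_id]

/-- The pullback of `L^{⊠4}` by the quaternion isogeny is `(L^m)^{⊠4}` up to translation invariant classes. -/
theorem inv_quat (c : PicLoc.PicSet A.left) (a b e d : ℤ) (m : ℕ) (hm : a * a + b * b + e * e + d * d = m) :
    Inv (box4 (c ^ m) * (pb (quat A a b e d) (box4 c))⁻¹) := by
  haveI : IsMonHom (p1 A) := inferInstanceAs (IsMonHom (fst (A ⊗ A) (A ⊗ A) ≫ fst A A))
  haveI : IsMonHom (p2 A) := inferInstanceAs (IsMonHom (fst (A ⊗ A) (A ⊗ A) ≫ snd A A))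
  haveI : IsMonHom (p3 A) := inferInstanceAs (IsMonHom (snd (A ⊗ A) (A ⊗ A) ≫ fst A A))
  haveI : IsMonHom (p4 A) := inferInstanceAs (IsMonHom (snd (A ⊗ A) (A ⊗ A) ≫ snd A A))
  let δ : ℤ → PicLoc.PicSet A.left := fun x => pb (𝟙 A ^ x) c * (c ^ (x * x))⁻¹
  have hI : ∀ (p : A4 A ⟶ A) [IsMonHom p] (x : ℤ), Inv (pb p (δ x)) := fun p _ x => inv_pb p (inv_zpow_div c x)
  have key : box4 (c ^ m) * (pb (quat A a b e d) (box4 c))⁻¹ =
      ((pb (p1 A) (δ a) * pb (p2 A) (δ (-b)) * pb (p3 A) (δ (-e)) * pb (p4 A) (δ (-d))) *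
       (pb (p1 A) (δ b) * pb (p2 A) (δ a) * pb (p3 A) (δ (-d)) * pb (p4 A) (δ e)) *
       (pb (p1 A) (δ e) * pb (p2 A) (δ d) * pb (p3 A) (δ a) * pb (p4 A) (δ (-b))) *
       (pb (p1 A) (δ d) * pb (p2 A) (δ (-e)) * pb (p3 A) (δ b) * pb (p4 A) (δ a)))⁻¹ := by
    simp only [box4_eq, map_mul, pb_pb, quat_p1, quat_p2, quat_p3, quat_p4, pb_row, pb_proj_zpow, map_pow, δ]
    simp only [← zpow_natCast, ← hm]
    apply Additive.ofMul.injective
    simp only [ofMul_mul, ofMul_zpow, ofMul_inv]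
    module
  rw [key]
  exact (((((hI _ a).mul (hI _ _)).mul (hI _ _)).mul (hI _ _)).mul
    ((((hI _ b).mul (hI _ _)).mul (hI _ _)).mul (hI _ _))
    |>.mul ((((hI _ e).mul (hI _ _)).mul (hI _ _)).mul (hI _ _))
    |>.mul ((((hI _ d).mul (hI _ _)).mul (hI _ _)).mul (hI _ _))).inv

theorem nd_pow {c : PicLoc.PicSet A.left} (hc : Nd c) {m : ℕ} (hm : 0 < m) : Nd (c ^ m) := by
  haveI := isCommMonObj_of_isProper_of_geometricallyIntegral A
  obtain ⟨hf, -, -⟩ := AVDegree22.isFinite_flat_surjective_pow A hm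
  haveI := hf
  let φ : (𝟙_ (Over (Spec (CommRingCat.of k))) ⟶ A) → PicLoc.PicSet A.left :=
    fun b => pb (𝟙 A * (toUnit A ≫ b)) c * c⁻¹
  have hmul : ∀ b b', φ (b * b') = φ b * φ b' := fun b b' => by
    have h1 := inv_translate_div c b' b
    rw [map_mul, map_inv, pb_pb, show (𝟙 A * (toUnit A ≫ b)) ≫ (𝟙 A * (toUnit A ≫ b')) = 𝟙 A * (toUnit A ≫ (b * b')) by
      rw [MonObj.comp_mul, Category.comp_id, comp_toUnit_assoc, _root_.mul_assoc, ← MonObj.comp_mul],
      mul_inv_eq_iff_eq_mul] at h1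
    simp only [φ, h1]
    rw [mul_comm (pb (𝟙 A * (toUnit A ≫ b')) c * c⁻¹), _root_.mul_assoc, _root_.mul_assoc]
    first | done | ac_rfl
  let Φ : (𝟙_ (Over (Spec (CommRingCat.of k))) ⟶ A) →* PicLoc.PicSet A.left := MonoidHom.mk' φ hmul
  let K := {a : 𝟙_ (Over (Spec (CommRingCat.of k))) ⟶ A | pb (𝟙 A * (toUnit A ≫ a)) c = c}
  refine ((hc.image CubeField.rpt).preimage' (f := (𝟙 A ^ m).left) fun z _ => ?_).preimage
    CubeField.rpt_injective.injOn |>.subset fun a ha => ?_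
  · exact (𝟙 A ^ m).left.finite_preimage_singleton z
  · have h1 : Φ (a ^ m) = 1 := by
      rw [map_pow]
      show (pb (𝟙 A * (toUnit A ≫ a)) c * c⁻¹) ^ m = 1
      rw [_root_.mul_pow, ← map_pow, ha, inv_pow, mul_inv_cancel]
    refine ⟨a ^ m, mul_inv_eq_one.1 h1, ?_⟩
    rw [show a ^ m = a ≫ (𝟙 A ^ m) by rw [MonObj.comp_pow, Category.comp_id], CubeField.rpt_comp]

/-- A tensor power keeps the index. -/
theorem conc_pow {L : A.left.Modules} (hL : PicF.IsInvertible L) {i : ℕ} (h : Conc L i) {m : ℕ} (hm : 0 < m) :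
    Conc (CohB1.tensorPow L m) i := by
  obtain ⟨a, b, e, d, hsum⟩ := Nat.sum_four_squares m
  have hmz : (a : ℤ) * a + (b : ℤ) * b + (e : ℤ) * e + (d : ℤ) * d = m := by
    have : ((a ^ 2 + b ^ 2 + e ^ 2 + d ^ 2 : ℕ) : ℤ) = m := by rw [hsum]
    push_cast at this
    linarith
  have hP := M2.isInvertible_tensorPow hL m
  have hcP : PicGrp.cls (CohB1.tensorPow L m) hP = PicGrp.cls L hL ^ m :=
    Subtype.ext (by rw [PicGrp.cls_pow_val, PicGrp.cls_val])
  have hndP : Nd (PicGrp.cls (CohB1.tensorPow L m) hP) := hcP ▸ nd_pow (nd_of_conc hL h) hm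
  obtain ⟨g, hg⟩ := exists_dim (A := A)
  obtain ⟨D, hD, eD⟩ := M2.exists_inverse hP
  obtain ⟨n, -, hn, -⟩ := exists_index hP hndP hD eD hg
  obtain ⟨hf, hfl, hs⟩ := quat_isogeny (A := A) (a : ℤ) b e d m hmz hm
  haveI := hf
  haveI := hfl
  haveI := hs
  obtain ⟨h2, c2⟩ := exists_cls_box hL hL
  obtain ⟨h4, c4⟩ := exists_cls_box h2 h2
  obtain ⟨h2', c2'⟩ := exists_cls_box hP hP
  obtain ⟨h4', c4'⟩ := exists_cls_box h2' h2'
  obtain ⟨-, hQ⟩ := conc_pullback (quat A (a : ℤ) b e d) h4 (conc_box h2 h2 (conc_box hL hL h h) (conc_box hL hL h h))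
  have hQ' : Conc (boxM (boxM (CohB1.tensorPow L m) (CohB1.tensorPow L m))
      (boxM (CohB1.tensorPow L m) (CohB1.tensorPow L m))) (i + i + (i + i)) := by
    refine conc_twist (PicLoc.isInvertible_pullback _ h4) h4' hQ ?_
    rw [show PicGrp.cls _ (PicLoc.isInvertible_pullback (quat A (a : ℤ) b e d).left h4) =
      pb (quat A (a : ℤ) b e d) (PicGrp.cls _ h4) from (PicGrp.pullHom_cls _ _ _ _).symm, c4, c2, c4', c2', hcP]
    exact inv_quat _ _ _ _ _ m hmz
  have := hQ'.unique (conc_box h2' h2' (conc_box hP hP hn hn) (conc_box hP hP hn hn)).2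
  exact (show n = i by omega) ▸ hn

end Groth.Agent.Index22
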