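import Groth.Agent.Lib.Index22.LocalVan
import Groth.Agent.Lib.MumVan22.Acyclic
import Groth.Agent.Lib.VanFib13.Apply

/-!
# Cohomology of a family with finitely many non-acyclic fibres
-/

set_option autoImplicit false
set_option linter.style.haveILetI false
set_option linter.unusedSectionVars false
set_option maxHeartbeats 1000000

universe u

open CategoryTheory CategoryTheory.Limits AlgebraicGeometry TopologicalSpace Opposite TensorProduct

noncomputable section

namespace Groth.Agent.Index22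

open Groth.Agent.CohFound Groth.Agent.CBC10 Groth.Agent.MumVan22

/-- Mayer–Vietoris in one degree. -/
theorem subsingleton_hc_sup_at {T : TopCat.{u}} {G : CohTop.Ab T} {U V : Opens T} {n : ℕ}
    (hU : Subsingleton (Hc G n U)) (hV : Subsingleton (Hc G n V))
    (hI : ∀ n, Subsingleton (Hc G n (U ⊓ V))) : Subsingleton (Hc G n (U ⊔ V)) := by
  suffices h : ∀ x : Hc G n (U ⊔ V), x = 0 from ⟨fun a b => (h a).trans (h b).symm⟩
  intro x
  have e1 : rs G n (le_sup_left : U ≤ U ⊔ V) x = 0 := hU.elim _ _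
  have e2 : rs G n (le_sup_right : V ≤ U ⊔ V) x = 0 := hV.elim _ _
  cases n with
  | zero =>
    refine (hc0 G _).injective ?_
    rw [map_zero]
    exact TopCat.Sheaf.eq_of_locally_eq₂ G (homOfLE le_sup_left) (homOfLE le_sup_right) le_rfl _ _
      (((hc0_rs _ _ x).symm.trans (by rw [e1, map_zero])).trans (map_zero _).symm)
      (((hc0_rs _ _ x).symm.trans (by rw [e2, map_zero])).trans (map_zero _).symm)
  | succ m =>
    obtain ⟨v, hv⟩ := mv_exact x e1 e2
    rw [← hv, (hI m).elim v 0, map_zero]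

variable {X Y : Scheme.{u}} (f : X ⟶ Y) [IsProper f] [IsLocallyNoetherian Y] {F : X.Modules}

/-- The cohomology over the preimage is concentrated in degree `g`. -/
def VanNe (g : ℕ) (F : X.Modules) (U : Y.Opens) : Prop :=
  ∀ n, n ≠ g → Subsingleton (Hc ((abF X).obj F) n (f ⁻¹ᵁ U))

theorem vanNe_sup {g : ℕ} {U V : Y.Opens} (hU : VanNe f g F U) (hV : VanNe f g F V) (hI : Van f F (U ⊓ V)) :
    VanNe f g F (U ⊔ V) := by
  intro n hn
  rw [Scheme.Hom.preimage_sup]
  exact subsingleton_hc_sup_at (hU n hn) (hV n hn) (fun m => by have := hI m; rwa [Scheme.Hom.preimage_inf] at this)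

/-- An affine open with one bad point. -/
theorem vanNe_affine (hF : Coh.IsCoh F) (hfl : FlatMod.IsFlatOver f F) {U : Y.Opens} (hU : IsAffineOpen U) {g : ℕ}
    {s : Y} (hsU : s ∈ U) (hs : IsClosed ({s} : Set Y)) [IsRegularLocalRing (Y.presheaf.stalk s)]
    (hg : ringKrullDim (Y.presheaf.stalk s) = g)
    (hdim : ∀ w ∈ U, topologicalKrullDim ↥(f ⁻¹' {w} : Set X) ≤ (g : WithBot ℕ∞))
    (h : ∀ y ∈ U, y ≠ s → ∀ p, Subsingleton (CohIII.fiberH f F y p)) : VanNe f g F U := by
  intro n hn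
  rcases lt_or_gt_of_ne hn with hlt | hgt
  swap
  · exact VanFib13.subsingleton_hc_affine f hU g hdim hF.1 hgt
  obtain ⟨P, hfin, hflat, -, hpos, hP⟩ := exists_complexOn hF hfl hU
  haveI := hfin
  haveI := hflat
  haveI : IsNoetherianRing Γ(Y, U) := IsLocallyNoetherian.component_noetherian ⟨U, hU⟩
  letI := overU f hU
  haveI := isProper_overU f hU
  haveI : CompactSpace ((f ⁻¹ᵁ U : X.Opens) : Scheme.{u}) :=
    QuasiCompact.compactSpace_of_compactSpace ((f ⁻¹ᵁ U : X.Opens).toScheme ↘ Spec (CommRingCat.of Γ(Y, U)))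
  haveI : ((f ⁻¹ᵁ U : X.Opens) : Scheme.{u}).IsSeparated := ⟨by
    rw [← terminal.comp_from ((f ⁻¹ᵁ U : X.Opens).toScheme ↘ Spec (CommRingCat.of Γ(Y, U)))]; infer_instance⟩
  have hprime : ∀ x : PrimeSpectrum Γ(Y, U), ∃ y : ↥U, hU.primeIdealOf y = x := fun x => by
    refine ⟨⟨hU.fromSpec x, hU.range_fromSpec.le ⟨x, rfl⟩⟩, hU.fromSpec.isOpenEmbedding.injective ?_⟩
    exact hU.fromSpec_primeIdealOf _
  set m := (hU.primeIdealOf ⟨s, hsU⟩).asIdeal with hm
  haveI : m.IsMaximal := by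
    refine (PrimeSpectrum.isClosed_singleton_iff_isMaximal (hU.primeIdealOf ⟨s, hsU⟩)).1 ?_
    have hpre : hU.fromSpec ⁻¹' {s} = {hU.primeIdealOf ⟨s, hsU⟩} := by
      ext z
      refine ⟨fun hz => hU.fromSpec.isOpenEmbedding.injective (hz.trans (hU.fromSpec_primeIdealOf ⟨s, hsU⟩).symm), ?_⟩
      rintro rfl
      exact hU.fromSpec_primeIdealOf ⟨s, hsU⟩
    have hcl := hs.preimage hU.fromSpec.continuous
    rw [hpre] at hcl
    exact hcl
  letI := Y.presheaf.algebra_section_stalk (⟨s, hsU⟩ : U)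
  haveI := hU.isLocalization_stalk ⟨s, hsU⟩
  let e := (IsLocalization.algEquiv m.primeCompl (Y.presheaf.stalk s) (Localization.AtPrime m)).toRingEquiv
  haveI : IsRegularLocalRing (Localization.AtPrime m) := IsRegularLocalRing.of_ringEquiv e
  have hg' : ringKrullDim (Localization.AtPrime m) = g := by rw [← ringKrullDim_eq_of_ringEquiv e, hg]
  have hrank : ∀ (q : ℤ) (x : PrimeSpectrum Γ(Y, U)), x.asIdeal ≠ m → CohIII.dRank P q x = 0 := by
    intro q x hx
    rcases lt_or_ge 0 q with hq | hq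
    · haveI := hpos q hq (ModuleCat.of Γ(Y, U) x.asIdeal.ResidueField)
      haveI : Subsingleton ((CohIII.bcCx (algebraMap Γ(Y, U) x.asIdeal.ResidueField) P).homology q) :=
        (FlatCxLib.tensorBcEquiv P x.asIdeal.ResidueField (sub_add_cancel q 1)).symm.toEquiv.subsingleton
      exact Module.finrank_zero_of_subsingleton
    · obtain ⟨p, rfl⟩ : ∃ p : ℕ, q = -(p : ℤ) := ⟨(-q).toNat, by omega⟩
      obtain ⟨y, rfl⟩ := hprime x
      rw [← hP.fiberRank_eq y.2 hF.1 p]
      exact fiberRank_eq_zero_of_subsingleton (h y y.2 (fun e => hx (by rw [hm]; congr 2; exact Subtype.ext e)) p)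
  haveI := subsingleton_H_of_point P hg' hpos hrank (p := -(n : ℤ)) (by omega)
  obtain ⟨e'⟩ := Computes.exists_unit hP (isCoh_resU (f := f) (U := U) hF).1 n
  haveI := e'.symm.toEquiv.subsingleton
  obtain ⟨e''⟩ := nonempty_HHon_addEquiv F (f ⁻¹ᵁ U) n
  exact e''.symm.toEquiv.subsingleton

/-- Finitely many bad points. -/
theorem subsingleton_HH_of_finite [IsNoetherian Y] (hF : Coh.IsCoh F) (hfl : FlatMod.IsFlatOver f F) (g : ℕ)
    (hreg : ∀ y : Y, IsClosed ({y} : Set Y) → IsRegularLocalRing (Y.presheaf.stalk y))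
    (hg : ∀ y : Y, IsClosed ({y} : Set Y) → ringKrullDim (Y.presheaf.stalk y) = g)
    (hdim : ∀ w : Y, topologicalKrullDim ↥(f ⁻¹' {w} : Set X) ≤ (g : WithBot ℕ∞))
    {S : Set Y} (hS : S.Finite) (hSc : ∀ s ∈ S, IsClosed ({s} : Set Y))
    (h : ∀ y ∉ S, ∀ p, Subsingleton (CohIII.fiberH f F y p)) {n : ℕ} (hn : n ≠ g) :
    Subsingleton (Coh.HH X F n) := by
  classical
  have hclosed : ∀ T : Set Y, T ⊆ S → IsClosed T := fun T hT => by
    rw [← Set.biUnion_of_singleton T]
    exact (hS.subset hT).isClosed_biUnion fun s hs => hSc s (hT hs)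
  let O : Y.Opens := ⟨Sᶜ, (hclosed S subset_rfl).isOpen_compl⟩
  have good : ∀ U : Y.Opens, U ≤ O → Van f F U := fun U hU =>
    van_of_fibres_qc f hF hfl (fun y hy => h y hy) (NoetherianSpace.isCompact _) hU
  suffices ∀ T : Finset Y, ∀ U : Y.Opens, (U : Set Y) ∩ S ⊆ T → VanNe f g F U from
    (CohFound.subsingleton_HH_iff F n).2 (this hS.toFinset ⊤ (by simp) n hn)
  intro T
  induction T using Finset.induction_on with
  | empty => exact fun U hU m _ => good U (fun y hy hyS => by simpa using hU ⟨hy, hyS⟩) m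
  | insert s T hsT ih =>
    intro U hU
    by_cases hsU : s ∈ U ∧ s ∈ S
    swap
    · refine ih U fun y hy => ?_
      rcases Finset.mem_insert.1 (hU hy) with rfl | hy'
      · exact absurd hy hsU
      · exact hy'
    haveI := hreg s (hSc s hsU.2)
    obtain ⟨W, hW, hsW, hWle⟩ := exists_isAffineOpen_mem_and_subset (X := Y) (x := s)
      (U := U ⊓ ⟨(S \ {s})ᶜ, (hclosed _ Set.diff_subset).isOpen_compl⟩) ⟨hsU.1, fun h' => h'.2 rfl⟩
    let U' : Y.Opens := U ⊓ ⟨{s}ᶜ, (hSc s hsU.2).isOpen_compl⟩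
    have hU' : VanNe f g F U' := ih U' fun y hy => by
      rcases Finset.mem_insert.1 (hU ⟨hy.1.1, hy.2⟩) with rfl | hy'
      · exact absurd rfl hy.1.2
      · exact hy'
    have hW' : VanNe f g F W := vanNe_affine f hF hfl hW hsW (hSc s hsU.2) (hg s (hSc s hsU.2))
      (fun w _ => hdim w) fun y hy hne => h y fun hyS => (hWle hy).2 ⟨hyS, hne⟩
    have hI : Van f F (U' ⊓ W) := good _ fun y hy hyS => (hWle hy.2).2 ⟨hyS, hy.1.2⟩
    have heq : U' ⊔ W = U := le_antisymm (sup_le inf_le_left (hWle.trans inf_le_left)) fun y hy => by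
      by_cases hys : y = s
      · exact Or.inr (hys ▸ hsW)
      · exact Or.inl ⟨hy, hys⟩
    exact heq ▸ vanNe_sup f hU' hW' hI

end Groth.Agent.Index22
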