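import Groth.Agent.Lib.Index22.Index
import Groth.Agent.Lib.MumVan22.AmpleVan

/-!
# The index under translation and multiplication
-/

universe u

open CategoryTheory Limits MonoidalCategory CartesianMonoidalCategory AlgebraicGeometry TopologicalSpace Opposite
open scoped MonObj GrpObj

set_option autoImplicit false
set_option linter.style.haveILetI false
set_option linter.unusedSectionVars false
set_option maxHeartbeats 1000000
set_option backward.isDefEq.respectTransparency false

noncomputable section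

namespace Groth.Agent.Index22

open AlgEquiv22 MumVan22

noncomputable local instance instLawIdx3 (Y : Scheme.{u}) : PicGrp.Law Y := M2.law Y

theorem Conc.pullback_iso {X Y : Scheme.{u}} (f : X ⟶ Y) [IsIso f] {L : Y.Modules} (hL : PicF.IsInvertible L)
    {i : ℕ} (h : Conc L i) : Conc ((Scheme.Modules.pullback f).obj L) i :=
  ⟨fun j hj => (subsingleton_HH_iso_iff f hL j).2 (h.1 j hj), by
    rw [← not_subsingleton_iff_nontrivial, subsingleton_HH_iso_iff f hL i, not_subsingleton_iff_nontrivial]
    exact h.2⟩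

variable {k : Type u} [Field k] [IsAlgClosed k] {A : Over (Spec (CommRingCat.of k))} [GrpObj A] [IsProper A.hom]
  [GeometricallyIntegral A.hom]

/-- Twisting by a translation invariant class does not change the index. -/
theorem conc_twist {L L' : A.left.Modules} (hL : PicF.IsInvertible L) (hL' : PicF.IsInvertible L') {i : ℕ}
    (h : Conc L i) (hinv : Inv (PicGrp.cls L' hL' * (PicGrp.cls L hL)⁻¹)) : Conc L' i := by
  obtain ⟨N, hN, hc⟩ := PicGrp.exists_eq_cls (PicGrp.cls L' hL' * (PicGrp.cls L hL)⁻¹)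
  obtain ⟨a, ha⟩ := exists_translate hL hN (hc ▸ hinv) (nd_of_conc hL h)
  rw [← hc, mul_left_inj] at ha
  have hiso : IsIso (𝟙 A * (toUnit A ≫ a)).left := by
    haveI := isCommMonObj_of_isProper_of_geometricallyIntegral A
    haveI : IsIso (𝟙 A * (toUnit A ≫ a)) := ⟨𝟙 A * (toUnit A ≫ a⁻¹), by
        rw [MonObj.comp_mul, Category.comp_id, comp_toUnit_assoc, _root_.mul_assoc, ← MonObj.comp_mul,
          mul_inv_cancel, MonObj.comp_one, _root_.mul_one], by
        rw [MonObj.comp_mul, Category.comp_id, comp_toUnit_assoc, _root_.mul_assoc, ← MonObj.comp_mul,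
          inv_mul_cancel, MonObj.comp_one, _root_.mul_one]⟩
    exact inferInstanceAs (IsIso ((Over.forget _).map (𝟙 A * (toUnit A ≫ a))))
  rw [pb, PicGrp.pullHom_cls] at ha
  obtain ⟨e⟩ := (PicGrp.cls_eq_cls_iff _ _).1 ha
  haveI := hiso
  exact (h.pullback_iso _ hL).congr e

/-- Multiplication by `m` squares the multiplicity. -/
theorem conc_sq {L : A.left.Modules} (hL : PicF.IsInvertible L) {i : ℕ} (h : Conc L i) {m : ℕ} (hm : 0 < m) :
    Conc (CohB1.tensorPow L (m ^ 2)) i := by
  haveI := isCommMonObj_of_isProper_of_geometricallyIntegral A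
  obtain ⟨hf, hfl, hs⟩ := AVDegree22.isFinite_flat_surjective_pow A hm
  haveI := hf
  haveI := hfl
  haveI := hs
  haveI : Smooth A.hom := @smooth_of_grpObj k _ _ A.hom _ (show GrpObj (Over.mk A.hom) from ‹GrpObj A›) _
  haveI : IsMonHom (𝟙 A ^ m) := RatMapAV.isMonHom_of_smooth A A _ (by
    rw [MonObj.comp_pow, Category.comp_id, show η[A] = (1 : 𝟙_ (Over (Spec (CommRingCat.of k))) ⟶ A) by
      rw [Hom.one_def, toUnit_unique (toUnit _) (𝟙 _), Category.id_comp], one_pow])
  obtain ⟨-, h'⟩ := conc_pullback (𝟙 A ^ m) hL h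
  refine conc_twist (PicLoc.isInvertible_pullback _ hL) (M2.isInvertible_tensorPow hL _) h' ?_
  have e1 : PicGrp.cls _ (PicLoc.isInvertible_pullback (𝟙 A ^ m).left hL) = pb (𝟙 A ^ m) (PicGrp.cls L hL) :=
    (PicGrp.pullHom_cls _ _ _ _).symm
  have e2 : PicGrp.cls (CohB1.tensorPow L (m ^ 2)) (M2.isInvertible_tensorPow hL _) = PicGrp.cls L hL ^ (m * m) :=
    Subtype.ext (by rw [PicGrp.cls_pow_val, PicGrp.cls_val, ← sq])
  rw [e1, e2, pb_pow_class, mul_inv, mul_inv_cancel_left]
  exact (Inv.pow' (inv_symm_div _) _).inv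

end Groth.Agent.Index22
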