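import Groth.Agent.Lib.FlatCx.FlatCoeff
import Groth.Agent.Lib.MumVan22.Acyclic
import Groth.Agent.Lib.RegLoc.Basic
import Mathlib.RingTheory.Localization.AtPrime.Basic
import Mathlib.RingTheory.Regular.RegularSequence

/-!
# A complex with homology at one regular point is concentrated in one degree
-/

universe u

open CategoryTheory CategoryTheory.Limits
open scoped TensorProduct Pointwise

set_option linter.style.haveILetI false
set_option maxHeartbeats 1000000

noncomputable section

namespace Groth.Agent.Index22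

open FlatCxLib

variable {A : Type u} [CommRing A] (P : ChainComplex (ModuleCat.{u} A) ℤ)

/-- No homology with coefficients in `M`. -/
def Exc (p : ℤ) (M : Type u) [AddCommGroup M] [Module A M] : Prop :=
  ∀ z : P.X p ⊗[A] M, (dl P p (p - 1)).rTensor M z = 0 → ∃ y, (dl P (p + 1) p).rTensor M y = z

/-- Homology with coefficients in `M` is `c`-power torsion. -/
def Killed (c : A) (p : ℤ) (M : Type u) [AddCommGroup M] [Module A M] : Prop :=
  ∀ z : P.X p ⊗[A] M, (dl P p (p - 1)).rTensor M z = 0 → ∃ (n : ℕ) (y : P.X (p + 1) ⊗[A] M), (dl P (p + 1) p).rTensor M y = c ^ n • z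

theorem exc_of_subsingleton {p : ℤ} {M : Type u} [AddCommGroup M] [Module A M]
    (h : Subsingleton (CohIII.T P p (ModuleCat.of A M))) : Exc P p M := fun z hz =>
  (cls_eq_zero_iff (CohIII.tensorObj P (ModuleCat.of A M)) (sub_add_cancel p 1) ⟨z, hz⟩).1 (h.elim _ _)

theorem killed_of_T {c : A} {p : ℤ} {M : Type u} [AddCommGroup M] [Module A M]
    (h : ∀ t : CohIII.T P p (ModuleCat.of A M), ∃ n : ℕ, c ^ n • t = 0) : Killed P c p M := fun z hz => by
  obtain ⟨n, hn⟩ := h (cls (CohIII.tensorObj P (ModuleCat.of A M)) (sub_add_cancel p 1) ⟨z, hz⟩)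
  rw [← map_smul] at hn
  let zz : LinearMap.ker (dl (CohIII.tensorObj P (ModuleCat.of A M)) p (p - 1)) := ⟨z, hz⟩
  exact ⟨n, (cls_eq_zero_iff (CohIII.tensorObj P (ModuleCat.of A M)) (sub_add_cancel p 1) (c ^ n • zz)).1 hn⟩

variable [∀ i, Module.Flat A (P.X i)]

section Quot

variable (a : A) {M : Type u} [AddCommGroup M] [Module A M] (ha : IsSMulRegular M a)

/-- Multiplication by `a` on coefficients. -/
abbrev mulA (M : Type u) [AddCommGroup M] [Module A M] : M →ₗ[A] M := a • LinearMap.id

omit [∀ i, Module.Flat A (P.X i)] in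
theorem lTensor_mulA (q : ℤ) (x : P.X q ⊗[A] M) : (mulA a M).lTensor (P.X q) x = a • x := by
  rw [mulA, LinearMap.lTensor_smul, LinearMap.lTensor_id, LinearMap.smul_apply, LinearMap.id_apply]

omit [∀ i, Module.Flat A (P.X i)] in
theorem exists_lift (q : ℤ) (z : P.X q ⊗[A] QuotSMulTop a M) :
    ∃ w : P.X q ⊗[A] M, (Submodule.mkQ (a • (⊤ : Submodule A M))).lTensor (P.X q) w = z :=
  LinearMap.lTensor_surjective _ (Submodule.mkQ_surjective _) z

omit [∀ i, Module.Flat A (P.X i)] in
theorem exists_mul (q : ℤ) (x : P.X q ⊗[A] M)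
    (hx : (Submodule.mkQ (a • (⊤ : Submodule A M))).lTensor (P.X q) x = 0) : ∃ y, a • y = x := by
  have hex : Function.Exact (mulA a M) (Submodule.mkQ (a • (⊤ : Submodule A M))) := by
    intro m
    rw [Submodule.mkQ_apply, Submodule.Quotient.mk_eq_zero, Submodule.mem_smul_pointwise_iff_exists]
    constructor
    · rintro ⟨y, -, rfl⟩
      exact ⟨y, rfl⟩
    · rintro ⟨y, rfl⟩
      exact ⟨y, trivial, rfl⟩
  obtain ⟨y, hy⟩ := (lTensor_exact (P.X q) hex (Submodule.mkQ_surjective _) x).1 hx
  exact ⟨y, (lTensor_mulA P a q y).symm.trans hy⟩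

include ha in
theorem injective_smul (q : ℤ) : Function.Injective fun x : P.X q ⊗[A] M => a • x := by
  have h := Module.Flat.lTensor_preserves_injective_linearMap (M := P.X q) (mulA a M) ha
  intro x y hxy
  exact h (((lTensor_mulA P a q x).trans hxy).trans (lTensor_mulA P a q y).symm)

include ha

/-- Vanishing for the quotient makes `a` injective. -/
theorem exc_of_quot {p : ℤ} (hN : Exc P (p + 1) (QuotSMulTop a M)) (hK : Killed P a p M) : Exc P p M := by
  intro z hz
  have key : ∀ z : P.X p ⊗[A] M, (∃ y, (dl P (p + 1) p).rTensor M y = a • z) →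
      ∃ y, (dl P (p + 1) p).rTensor M y = z := by
    intro z ⟨w, hw⟩
    let π := Submodule.mkQ (a • (⊤ : Submodule A M))
    have hc : (dl P (p + 1) (p + 1 - 1)).rTensor (QuotSMulTop a M) (π.lTensor _ w) = 0 := by
      rw [show (p + 1 - 1 : ℤ) = p by omega, lTensor_dl, hw, map_smul, ← map_smul]
      have : a • z = (mulA a M).lTensor _ z := (lTensor_mulA P a p z).symm
      rw [this, ← LinearMap.lTensor_comp_apply]
      rw [show π ∘ₗ mulA a M = 0 from LinearMap.ext fun m => (Submodule.Quotient.mk_eq_zero _).2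
        (Submodule.smul_mem_pointwise_smul m a _ trivial), LinearMap.lTensor_zero, LinearMap.zero_apply]
    obtain ⟨v, hv⟩ := hN _ hc
    obtain ⟨v', rfl⟩ := exists_lift P a _ v
    rw [lTensor_dl] at hv
    obtain ⟨k, hk⟩ := exists_mul P a (p + 1) (w - (dl P (p + 1 + 1) (p + 1)).rTensor M v')
      (by rw [map_sub, hv, sub_self])
    refine ⟨k, injective_smul P a ha p ?_⟩
    show a • _ = a • z
    rw [← map_smul, hk, map_sub, dl_dl_tensor, sub_zero, hw]
  obtain ⟨n, hn⟩ := hK z hz
  induction n generalizing z with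
  | zero => simpa using hn
  | succ n ih =>
    refine key z ?_
    obtain ⟨y, hy⟩ := ih (a • z) (by rw [map_smul, hz, smul_zero]) (by simpa [smul_smul, ← pow_succ] using hn)
    exact ⟨y, hy⟩

/-- Torsion passes to the quotient. -/
theorem killed_quot {c : A} {p : ℤ} (h0 : Killed P c p M) (h1 : Killed P c (p - 1) M) :
    Killed P c p (QuotSMulTop a M) := by
  intro z hz
  let π := Submodule.mkQ (a • (⊤ : Submodule A M))
  obtain ⟨w, rfl⟩ := exists_lift P a p z
  rw [lTensor_dl] at hz
  obtain ⟨t, ht⟩ := exists_mul P a (p - 1) _ hz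
  have htc : (dl P (p - 1) (p - 1 - 1)).rTensor M t = 0 := by
    refine injective_smul P a ha _ ?_
    show a • _ = a • (0 : _)
    rw [← map_smul, ht, dl_dl_tensor, smul_zero]
  obtain ⟨n, v, hv⟩ : ∃ (n : ℕ) (v : P.X p ⊗[A] M), (dl P p (p - 1)).rTensor M v = c ^ n • t := by
    have h1' := h1 t htc
    rwa [sub_add_cancel] at h1'
  let w' := c ^ n • w - a • v
  have hw' : (dl P p (p - 1)).rTensor M w' = 0 := by
    rw [map_sub, map_smul, map_smul, ← ht, hv, smul_comm, sub_self]
  obtain ⟨m, y, hy⟩ := h0 w' hw'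
  refine ⟨m + n, π.lTensor _ y, ?_⟩
  have hav : π.lTensor (P.X p) (a • v) = 0 := by
    rw [← lTensor_mulA P a p v, ← LinearMap.lTensor_comp_apply,
      show π ∘ₗ mulA a M = 0 from LinearMap.ext fun m => (Submodule.Quotient.mk_eq_zero _).2
        (Submodule.smul_mem_pointwise_smul m a _ trivial), LinearMap.lTensor_zero, LinearMap.zero_apply]
  rw [lTensor_dl, hy, map_smul, map_sub, hav, sub_zero, map_smul, pow_add, mul_smul]

end Quot

/-- Descending along a regular sequence. -/
theorem exc_of_regular (m : Ideal A) (hpos : ∀ p : ℤ, 0 < p → ∀ (M : Type u) [AddCommGroup M] [Module A M], Exc P p M) :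
    ∀ (rs : List A), (∀ a ∈ rs, a ∈ m) → ∀ (M : Type u) [AddCommGroup M] [Module A M],
      RingTheory.Sequence.IsWeaklyRegular M rs → (∀ c ∈ m, ∀ p, Killed P c p M) →
      ∀ p : ℤ, -(rs.length : ℤ) < p → Exc P p M
  | [], _, M, _, _, _, _, p, hp => hpos p (by simpa using hp) M
  | a :: rs, hm, M, _, _, hreg, hK, p, hp => by
    obtain ⟨ha, hrest⟩ := (RingTheory.Sequence.isWeaklyRegular_cons_iff M a rs).1 hreg
    refine exc_of_quot P a ha ?_ (hK a (hm a (List.mem_cons_self ..)) p)
    refine exc_of_regular m hpos rs (fun b hb => hm b (List.mem_cons_of_mem _ hb)) _ hrest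
      (fun c hc q => killed_quot P a ha (hK c hc q) (hK c hc (q - 1))) _ ?_
    rw [List.length_cons] at hp
    push_cast at hp
    omega

variable [IsNoetherianRing A] [∀ i, Module.Finite A (P.X i)]

/-- Homology lives at the bad point. -/
theorem exists_pow_smul_H {c : A} (h : ∀ (q : ℤ) (x : PrimeSpectrum A), c ∉ x.asIdeal → CohIII.dRank P q x = 0)
    (p : ℤ) (t : FlatCxLib.H P p) : ∃ n : ℕ, c ^ n • t = 0 := by
  let B := Localization.Away c
  let Q := CohIII.bcCx (algebraMap A B) P
  haveI : ∀ i, Module.Flat B (Q.X i) := fun i => flat_X_baseChange (B := B) P i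
  haveI : ∀ i, Module.Finite B (Q.X i) := fun i =>
    Module.Finite.equiv (extEquiv (B := B) (P.X i)).symm
  haveI : IsNoetherianRing B := IsLocalization.isNoetherianRing (Submonoid.powers c) B inferInstance
  haveI : Subsingleton (FlatCxLib.H Q p) := by
    refine MumVan22.subsingleton_T_of_dRank Q p (fun x => ?_) _
    rw [dRank_bcCx]
    exact h p _ fun hc => x.isPrime.ne_top (Ideal.eq_top_of_isUnit_mem _ hc (IsLocalization.Away.algebraMap_isUnit c))
  haveI : Subsingleton (B ⊗[A] FlatCxLib.H P p) :=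
    ((homologyFlatBaseChange P B p).toEquiv.trans (unitEquiv Q p).toEquiv.symm).subsingleton
  obtain ⟨⟨_, n, rfl⟩, hn⟩ := (IsLocalizedModule.eq_zero_iff (Submonoid.powers c)
    (TensorProduct.mk A B (FlatCxLib.H P p) 1)).1 (Subsingleton.elim ((TensorProduct.mk A B (FlatCxLib.H P p) 1) t) 0)
  exact ⟨n, hn⟩

/-- Homology of a complex supported at one regular point vanishes above `-g`. -/
theorem subsingleton_H_of_point {m : Ideal A} [m.IsMaximal] [IsRegularLocalRing (Localization.AtPrime m)] {g : ℕ}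
    (hg : ringKrullDim (Localization.AtPrime m) = g)
    (hpos : ∀ p : ℤ, 0 < p → ∀ M : ModuleCat.{u} A, Subsingleton (CohIII.T P p M))
    (h : ∀ (q : ℤ) (x : PrimeSpectrum A), x.asIdeal ≠ m → CohIII.dRank P q x = 0) {p : ℤ} (hp : -(g : ℤ) < p) :
    Subsingleton (FlatCxLib.H P p) := by
  classical
  let L := Localization.AtPrime m
  have hkill : ∀ c ∈ m, ∀ q, ∀ t : FlatCxLib.H P q, ∃ n : ℕ, c ^ n • t = 0 := fun c hc q t =>
    exists_pow_smul_H P (fun r x hx => h r x fun e => hx (by rw [e]; exact hc)) q t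
  -- a regular sequence in `m`
  have hfin : (IsLocalRing.maximalIdeal L).spanFinrank = g := by
    have := IsRegularLocalRing.spanFinrank_maximalIdeal (R := L)
    rw [hg] at this
    exact_mod_cast this
  obtain ⟨x, hx⟩ : ∃ x : Fin g → L, Ideal.span (Set.range x) = IsLocalRing.maximalIdeal L := by
    have hgen := Submodule.FG.generators_ncard (IsNoetherian.noetherian (IsLocalRing.maximalIdeal L))
    have hgfin := Submodule.FG.finite_generators (IsNoetherian.noetherian (IsLocalRing.maximalIdeal L))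
    haveI := hgfin.fintype
    let e : Fin g ≃ (IsLocalRing.maximalIdeal L).generators := by
      refine (Fintype.equivFinOfCardEq ?_).symm
      rw [← Nat.card_eq_fintype_card, Nat.card_coe_set_eq, hgen, hfin]
    refine ⟨fun i => e i, ?_⟩
    rw [show Set.range (fun i => (e i : L)) = (IsLocalRing.maximalIdeal L).generators by
      rw [Set.range_comp' Subtype.val e, e.surjective.range_eq, Set.image_univ, Subtype.range_coe]]
    exact (IsLocalRing.maximalIdeal L).span_generators
  choose as has using fun i => IsLocalization.surj m.primeCompl (x i)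
  let a : Fin g → A := fun i => (as i).1
  let s : Fin g → m.primeCompl := fun i => (as i).2
  have hu : ∀ i, IsUnit (algebraMap A L (s i : A)) := fun i => IsLocalization.map_units L (s i)
  have hspan : Ideal.span (Set.range fun i => algebraMap A L (a i)) = IsLocalRing.maximalIdeal L := by
    rw [← hx]
    refine le_antisymm (Ideal.span_le.2 ?_) (Ideal.span_le.2 ?_)
    · rintro _ ⟨i, rfl⟩
      show algebraMap A L (a i) ∈ _
      rw [← has i]
      exact Ideal.mul_mem_right _ _ (Ideal.subset_span ⟨i, rfl⟩)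
    · rintro _ ⟨i, rfl⟩
      exact (Ideal.mul_unit_mem_iff_mem _ (hu i)).1 (by rw [has i]; exact Ideal.subset_span ⟨i, rfl⟩)
  have ham : ∀ i, a i ∈ m := fun i => (IsLocalization.AtPrime.to_map_mem_maximal_iff L m (a i)).1
    (hspan ▸ Ideal.subset_span ⟨i, rfl⟩)
  have hreg : RingTheory.Sequence.IsWeaklyRegular L (List.ofFn a) := by
    rw [← RingTheory.Sequence.isWeaklyRegular_map_algebraMap_iff (S := L), List.map_ofFn]
    exact (RegLoc.isRegular_of_span_range g L _ hspan hfin).toIsWeaklyRegular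
  -- vanishing after localizing
  haveI : Module.Flat A L := IsLocalization.flat L m.primeCompl
  have hK : ∀ c ∈ m, ∀ q, Killed P c q L := by
    intro c hc q
    refine killed_of_T P fun t => ?_
    obtain ⟨w, rfl⟩ := (theta_bijective_of_flat P (p := q) L).2 t
    suffices ∃ n : ℕ, c ^ n • w = 0 by
      obtain ⟨n, hn⟩ := this
      exact ⟨n, by rw [← map_smul, hn, map_zero]⟩
    induction w using TensorProduct.induction_on with
    | zero => exact ⟨0, smul_zero _⟩
    | tmul t l =>
      obtain ⟨n, hn⟩ := hkill c hc q t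
      exact ⟨n, by rw [TensorProduct.smul_tmul', hn, TensorProduct.zero_tmul]⟩
    | add v w hv hw =>
      obtain ⟨n, hn⟩ := hv
      obtain ⟨n', hn'⟩ := hw
      exact ⟨n + n', by rw [smul_add, pow_add, mul_smul, mul_smul, hn', smul_comm, hn, smul_zero, smul_zero, add_zero]⟩
  have hex : Exc P p L := by
    refine exc_of_regular P m (fun q hq M _ _ => exc_of_subsingleton P (hpos q hq _)) (List.ofFn a) ?_ L hreg hK p ?_
    · intro b hb
      obtain ⟨i, rfl⟩ := List.mem_ofFn.1 hb
      exact ham i
    · rwa [List.length_ofFn]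
  refine ⟨fun t t' => ?_⟩
  suffices ∀ t : FlatCxLib.H P p, t = 0 from (this t).trans (this t').symm
  intro t
  obtain ⟨⟨σ, hσ⟩, hst⟩ : ∃ σ : m.primeCompl, (σ : A) • t = 0 := by
    have h0 : theta P p L ((TensorProduct.comm A L (FlatCxLib.H P p)) (TensorProduct.mk A L _ 1 t)) = 0 := by
      obtain ⟨⟨z, hz⟩, e⟩ := cls_surjective (CohIII.tensorObj P (ModuleCat.of A L)) (sub_add_cancel p 1)
        (theta P p L ((TensorProduct.comm A L (FlatCxLib.H P p)) (TensorProduct.mk A L _ 1 t)))
      rw [← e]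
      exact (cls_eq_zero_iff _ _ _).2 (hex z hz)
    rw [← map_zero (theta P p L)] at h0
    have h1 := (theta_bijective_of_flat P (p := p) L).1 h0
    rw [LinearEquiv.map_eq_zero_iff] at h1
    exact (IsLocalizedModule.eq_zero_iff m.primeCompl (TensorProduct.mk A L (FlatCxLib.H P p) 1)).1 h1
  have htop : Ideal.torsionOf A _ t = ⊤ := by
    by_contra hne
    obtain ⟨M', hM', hle⟩ := Ideal.exists_le_maximal _ hne
    have hmM : m ≤ M' := fun c hc => by
      obtain ⟨n, hn⟩ := hkill c hc p t
      exact hM'.isPrime.mem_of_pow_mem n (hle hn)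
    rw [← Ideal.IsMaximal.eq_of_le inferInstance hM'.ne_top hmM] at hle
    exact hσ (hle hst)
  have : (1 : A) ∈ Ideal.torsionOf A _ t := htop ▸ Submodule.mem_top
  simpa using this

end Groth.Agent.Index22
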